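import Mathlib
import Cfsg.Agent.H505.Cop.Red
import Cfsg.Agent.FastGrp
import Cfsg.Agent.Prune
set_option linter.all false
prune_inst 0x7f00000000000000000000000000000000000000000000000000000000000000000000000000000000000000000000000000000000000000000000000000000000000000000000000000000000000000003fffffffffefffffffffffffffffbeffbdfffffffd
open scoped Cfsg.Agent.FastGrp

-- part: H976/Cop/Basic
section
/-!
# Vectors with coprime orbit lengths in an irreducible module (S4175): basics

* `exists_mul` : subgroups of coprime indices factorize the group;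
* `pairing` : `H = A B`, `V` irreducible and not trivial, `f ∈ V*` fixed by `A`, `b ∈ V` fixed by `B`: `f = 0` or `b = 0`;
* `NoCop ρ` : no two nonzero vectors of `ρ` are fixed by subgroups of coprime indices;
* `CopRow H` : `NoCop ρ` for all irreducible nontrivial representations of `H` over prime fields.
-/

set_option autoImplicit false

namespace Cfsg.Agent.H976.Cop

universe u v w

/-- subgroups of coprime indices factorize the group -/
theorem exists_mul {G : Type*} [Group G] [Finite G] {A B : Subgroup G} (h : A.index.Coprime B.index) (g : G) :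
    ∃ a ∈ A, ∃ b ∈ B, g = a * b := by
  let F : A ⧸ B.subgroupOf A → G ⧸ B := Quotient.map' (fun s => (s : G)) (by
    intro a b hab
    rw [QuotientGroup.leftRel_apply] at hab ⊢
    exact hab)
  have hinj : Function.Injective F := by
    intro a b
    induction a using QuotientGroup.induction_on with
    | H a =>
      induction b using QuotientGroup.induction_on with
      | H b =>
        intro hab
        have h1 : (((a : G)) : G ⧸ B) = ((b : G) : G ⧸ B) := hab
        rw [QuotientGroup.eq] at h1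
        exact QuotientGroup.eq.2 h1
  have hcard : Nat.card (G ⧸ B) ≤ Nat.card (A ⧸ B.subgroupOf A) := by
    have h1 : (A ⊓ B).index = B.relIndex A * A.index := by
      rw [← Subgroup.relIndex_mul_index (inf_le_left : A ⊓ B ≤ A), Subgroup.inf_relIndex_left]
    have h2 : (A ⊓ B).index = A.relIndex B * B.index := by
      rw [← Subgroup.relIndex_mul_index (inf_le_right : A ⊓ B ≤ B), Subgroup.inf_relIndex_right]
    have h3 : B.index ∣ B.relIndex A := by
      have h4 : B.index ∣ B.relIndex A * A.index := by rw [← h1, h2]; exact Dvd.intro_left _ rfl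
      exact (Nat.Coprime.dvd_of_dvd_mul_right h.symm h4)
    exact Nat.le_of_dvd (Nat.pos_of_ne_zero (Subgroup.index_ne_zero_of_finite)) h3
  have hsurj : Function.Surjective F :=
    ((Nat.bijective_iff_injective_and_card F).2 ⟨hinj, le_antisymm (Nat.card_le_card_of_injective F hinj) hcard⟩).2
  obtain ⟨a, ha⟩ := hsurj (g : G ⧸ B)
  induction a using QuotientGroup.induction_on with
  | H a =>
    have h1 : (((a : G)) : G ⧸ B) = ((g : G) : G ⧸ B) := ha
    rw [QuotientGroup.eq] at h1
    exact ⟨a, a.2, (a : G)⁻¹ * g, h1, by group⟩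

section Basic

variable {k : Type u} [Field k] {V : Type v} [AddCommGroup V] [Module k V] {H : Type w} [Group H]

/-- irreducible (possibly zero) -/
def Irr (ρ : Representation k H V) : Prop :=
  ∀ W : Submodule k V, (∀ h : H, ∀ w ∈ W, ρ h w ∈ W) → W = ⊥ ∨ W = ⊤

/-- not a trivial action -/
def NonTriv (ρ : Representation k H V) : Prop := ∃ (h : H) (v : V), ρ h v ≠ v

/-- `v` is fixed by the subgroup `A` -/
def Fixed (ρ : Representation k H V) (A : Subgroup H) (v : V) : Prop := ∀ x ∈ A, ρ x v = v

/-- no two nonzero vectors are fixed by subgroups of coprime indices -/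
def NoCop (ρ : Representation k H V) : Prop :=
  ∀ A B : Subgroup H, A.index.Coprime B.index → ∀ a b : V, Fixed ρ A a → Fixed ρ B b → a = 0 ∨ b = 0

theorem mul_apply (ρ : Representation k H V) (g h : H) (v : V) : ρ (g * h) v = ρ g (ρ h v) := by
  rw [map_mul]; rfl

theorem inv_apply_apply (ρ : Representation k H V) (g : H) (v : V) : ρ g⁻¹ (ρ g v) = v := by
  rw [← mul_apply, inv_mul_cancel, map_one]; rfl

/-- the span of an orbit -/
theorem span_orbit {ρ : Representation k H V} (hirr : Irr ρ) {v : V} (hv : v ≠ 0) :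
    Submodule.span k (Set.range fun h : H => ρ h v) = ⊤ := by
  refine (hirr _ ?_).resolve_left ?_
  · intro h w hw
    induction hw using Submodule.span_induction with
    | mem x hx =>
      obtain ⟨g, rfl⟩ := hx
      exact Submodule.subset_span ⟨h * g, mul_apply ρ h g v⟩
    | zero => rw [map_zero]; exact Submodule.zero_mem _
    | add x y _ _ hx hy => rw [map_add]; exact Submodule.add_mem _ hx hy
    | smul c x _ hx => rw [map_smul]; exact Submodule.smul_mem _ _ hx
  · intro h
    apply hv
    have h1 : v ∈ Submodule.span k (Set.range fun h : H => ρ h v) :=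
      Submodule.subset_span ⟨1, by simp only [_root_.map_one, _root_.Module.End.one_apply]⟩
    rwa [h, Submodule.mem_bot] at h1

/-- a nonzero vector is moved -/
theorem exists_moved {ρ : Representation k H V} (hirr : Irr ρ) (hnt : NonTriv ρ) {v : V} (hv : v ≠ 0) :
    ∃ h, ρ h v ≠ v := by
  by_contra hcon
  push Not at hcon
  obtain ⟨h, w, hw⟩ := hnt
  have h1 := hirr (Submodule.span k {v}) (by
    intro g x hx
    obtain ⟨c, rfl⟩ := Submodule.mem_span_singleton.1 hx
    rw [map_smul, hcon]
    exact hx)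
  rcases h1 with h1 | h1
  · exact hv (Submodule.span_singleton_eq_bot.1 h1)
  · have h2 : w ∈ Submodule.span k {v} := by rw [h1]; trivial
    obtain ⟨c, rfl⟩ := Submodule.mem_span_singleton.1 h2
    rw [map_smul, hcon] at hw
    exact hw rfl

/-- **the pairing lemma** -/
theorem pairing {ρ : Representation k H V} (hirr : Irr ρ) (hnt : NonTriv ρ) {A B : Subgroup H}
    (hAB : ∀ h : H, ∃ x ∈ A, ∃ y ∈ B, h = x * y) {f : V →ₗ[k] k} (hf : ∀ x ∈ A, ∀ v, f (ρ x v) = f v) {b : V}
    (hb : Fixed ρ B b) : f = 0 ∨ b = 0 := by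
  by_contra hcon
  push Not at hcon
  obtain ⟨hf0, hb0⟩ := hcon
  have h1 : ∀ h, f (ρ h b) = f b := by
    intro h
    obtain ⟨x, hx, y, hy, rfl⟩ := hAB h
    rw [mul_apply, hb y hy, hf x hx]
  obtain ⟨g, hg⟩ := exists_moved hirr hnt hb0
  have h2 := span_orbit hirr (sub_ne_zero.2 hg)
  apply hf0
  ext v
  have h3 : v ∈ Submodule.span k (Set.range fun h : H => ρ h (ρ g b - b)) := by rw [h2]; trivial
  rw [LinearMap.zero_apply]
  induction h3 using Submodule.span_induction with
  | mem x hx =>
    obtain ⟨h, rfl⟩ := hx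
    change f (ρ h (ρ g b - b)) = 0
    rw [map_sub, map_sub, ← mul_apply, h1, h1, sub_self]
  | zero => rw [map_zero]
  | add x y _ _ hx hy => rw [map_add, hx, hy, add_zero]
  | smul c x _ hx => rw [map_smul, hx, smul_zero]

/-- conjugate subgroup and fixed vectors -/
theorem Fixed.conj {ρ : Representation k H V} {A : Subgroup H} {a : V} (ha : Fixed ρ A a) (h : H) :
    Fixed ρ (A.map (MulAut.conj h).toMonoidHom) (ρ h a) := by
  rintro _ ⟨x, hx, rfl⟩
  change ρ (h * x * h⁻¹) (ρ h a) = ρ h a
  rw [mul_apply, mul_apply, inv_apply_apply, ha x hx]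

end Basic

/-- **Row predicate**: no coprime orbits in the nontrivial irreducible representations of `H` over prime fields. -/
def CopRow (H : Type w) [Group H] : Prop :=
  ∀ (p : ℕ) [Fact p.Prime] (n : ℕ) (ρ : Representation (ZMod p) H (Fin n → ZMod p)), Irr ρ → NonTriv ρ → NoCop ρ

end Cfsg.Agent.H976.Cop
end

-- part: H976/Cop/Sep
section
/-!
# Separating finite simple modules by ring elements; trace functions

* `exists_sep` : for non-isomorphic finite simple modules `V`, `W` some ring element acts as `1` on `V` and as `0` on `W`;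
* `exists_sep_family` : the same for a finite family;
* `exists_trace` : `V` finite simple over the ring `Γ`: some element of `Γ` has nonzero trace over `F_p` on `V`.
-/

set_option autoImplicit false

namespace Cfsg.Agent.H976.Cop

section Ring

variable {Γ : Type*} [Ring Γ]

theorem hom_eq_zero {V W : Type*} [AddCommGroup V] [AddCommGroup W] [Module Γ V] [Module Γ W]
    [IsSimpleModule Γ V] [IsSimpleModule Γ W] (h : IsEmpty (V ≃ₗ[Γ] W)) (f : V →ₗ[Γ] W) : f = 0 :=
  (LinearMap.bijective_or_eq_zero f).resolve_left fun hb => h.false (LinearEquiv.ofBijective f hb)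

/-- **separation of two simple modules** -/
theorem exists_sep {V W : Type*} [AddCommGroup V] [AddCommGroup W] [Module Γ V] [Module Γ W]
    [IsSimpleModule Γ V] [IsSimpleModule Γ W] [Finite V] [Finite W] (h : IsEmpty (V ≃ₗ[Γ] W)) :
    ∃ r : Γ, (∀ v : V, r • v = v) ∧ ∀ w : W, r • w = 0 := by
  classical
  have := Fintype.ofFinite V
  have := Fintype.ofFinite W
  have h' : IsEmpty (W ≃ₗ[Γ] V) := ⟨fun e => h.false e.symm⟩
  have hss : IsSemisimpleModule Γ (V × W) := by
    have h1 : IsSemisimpleModule Γ ↥(LinearMap.range (LinearMap.inl Γ V W) ⊔ LinearMap.range (LinearMap.inr Γ V W)) :=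
      IsSemisimpleModule.sup (IsSemisimpleModule.range _) (IsSemisimpleModule.range _)
    rw [LinearMap.sup_range_inl_inr] at h1
    exact IsSemisimpleModule.congr Submodule.topEquiv.symm
  let f : Module.End (Module.End Γ (V × W)) (V × W) :=
    { toFun := fun m => (m.1, 0)
      map_add' := fun x y => by simp
      map_smul' := fun φ m => by
        have e1 : (LinearMap.snd Γ V W).comp ((φ : V × W →ₗ[Γ] V × W).comp (LinearMap.inl Γ V W)) = 0 :=
          hom_eq_zero h _
        have e2 : (LinearMap.fst Γ V W).comp ((φ : V × W →ₗ[Γ] V × W).comp (LinearMap.inr Γ V W)) = 0 :=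
          hom_eq_zero h' _
        have e3 : (φ (m.1, 0)).2 = 0 := LinearMap.congr_fun e1 m.1
        have e4 : (φ (0, m.2)).1 = 0 := LinearMap.congr_fun e2 m.2
        have e5 : φ m = φ (m.1, 0) + φ (0, m.2) := by
          rw [← map_add, Prod.mk_add_mk, add_zero, zero_add]
        change (((φ m).1, 0) : V × W) = φ (m.1, 0)
        rw [e5, Prod.fst_add, e4, add_zero]
        exact Prod.ext rfl e3.symm }
  obtain ⟨r, hr⟩ := jacobson_density (R := Γ) f Finset.univ
  refine ⟨r, fun v => ?_, fun w => ?_⟩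
  · have h1 := hr (v, 0) (Finset.mem_univ _)
    have h2 : ((v, 0) : V × W) = r • ((v, 0) : V × W) := h1
    exact (congrArg Prod.fst h2).symm
  · have h1 := hr (0, w) (Finset.mem_univ _)
    have h2 : ((0, 0) : V × W) = r • ((0, w) : V × W) := h1
    exact (congrArg Prod.snd h2).symm

/-- **separation of a family of simple modules** -/
theorem exists_sep_family {ι : Type*} [Finite ι] {V : ι → Type*} [∀ i, AddCommGroup (V i)] [∀ i, Module Γ (V i)]
    [∀ i, IsSimpleModule Γ (V i)] [∀ i, Finite (V i)] (i : ι) (h : ∀ j, j ≠ i → IsEmpty (V i ≃ₗ[Γ] V j)) :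
    ∃ r : Γ, (∀ v : V i, r • v = v) ∧ ∀ j, j ≠ i → ∀ w : V j, r • w = 0 := by
  classical
  have := Fintype.ofFinite ι
  have key : ∀ s : Finset ι, i ∉ s → ∃ r : Γ, (∀ v : V i, r • v = v) ∧ ∀ j ∈ s, ∀ w : V j, r • w = 0 := by
    intro s
    induction s using Finset.induction_on with
    | empty => exact fun _ => ⟨1, fun v => one_smul _ v, fun j hj => absurd hj (Finset.notMem_empty j)⟩
    | insert a s has ih =>
      intro hi
      rw [Finset.mem_insert, not_or] at hi
      obtain ⟨r, hr1, hr2⟩ := ih hi.2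
      obtain ⟨t, ht1, ht2⟩ := exists_sep (h a (Ne.symm hi.1))
      refine ⟨r * t, fun v => by rw [mul_smul, ht1, hr1], fun j hj w => ?_⟩
      rw [Finset.mem_insert] at hj
      by_cases hja : j = a
      · subst hja
        rw [mul_smul, ht2, smul_zero]
      · rw [mul_smul]
        exact hr2 j (hj.resolve_left hja) _
  obtain ⟨r, hr1, hr2⟩ := key (Finset.univ.erase i) (Finset.notMem_erase i _)
  exact ⟨r, hr1, fun j hj w => hr2 j (Finset.mem_erase.2 ⟨hj, Finset.mem_univ j⟩) w⟩

/-- **a finite simple module has a nonzero trace function** -/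
theorem exists_trace (p : ℕ) [Fact p.Prime] {V : Type*} [AddCommGroup V] [Module Γ V] [IsSimpleModule Γ V] [Finite V]
    [Module (ZMod p) V] : ∃ (r : Γ) (f : V →ₗ[ZMod p] V), (∀ v, f v = r • v) ∧ LinearMap.trace (ZMod p) V f ≠ 0 := by
  classical
  have := Fintype.ofFinite V
  have hnt : Nontrivial V := IsSimpleModule.nontrivial Γ V
  obtain ⟨v, hv⟩ := exists_ne (0 : V)
  have hfinD : Finite (Module.End Γ V) :=
    Finite.of_injective (fun f : Module.End Γ V => (f : V → V)) DFunLike.coe_injective
  let D := Module.End Γ V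
  let _ : DivisionRing D := Module.End.instDivisionRing
  let _ : Field D := littleWedderburn D
  -- `D` is an algebra over `F_p`
  have hpD : (p : D) = 0 := by
    ext x
    have h1 : ((p : D) : V → V) x = p • x := by
      rw [Module.End.natCast_apply]
    rw [h1, ← Nat.cast_smul_eq_nsmul (ZMod p), ZMod.natCast_self, zero_smul]
    rfl
  have : CharP D p := (CharP.charP_iff_prime_eq_zero Fact.out).2 hpD
  let _ : Algebra (ZMod p) D := ZMod.algebra D p
  have : FiniteDimensional (ZMod p) D := Module.Finite.of_finite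
  obtain ⟨d, hd⟩ : ∃ d : D, Algebra.trace (ZMod p) D d ≠ 0 := by
    by_contra hcon
    push Not at hcon
    exact Algebra.trace_ne_zero (ZMod p) D (LinearMap.ext hcon)
  let ι : D →ₗ[D] V := LinearMap.toSpanSingleton D V v
  have hι : LinearMap.ker ι = ⊥ := by
    rw [LinearMap.ker_eq_bot']
    intro x hx
    have h1 : x • v = 0 := hx
    by_contra hx0
    apply hv
    have h2 : x⁻¹ • (x • v) = v := by rw [smul_smul, inv_mul_cancel₀ hx0, one_smul]
    rw [← h2, h1, smul_zero]
  obtain ⟨π, hπ⟩ := LinearMap.exists_leftInverse_of_injective ι hι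
  have hπ' : ∀ x : D, π (ι x) = x := fun x => LinearMap.congr_fun hπ x
  -- the `D`-linear map `x ↦ π(x) d v`
  let f : Module.End D V := ι.comp ((LinearMap.mulRight D d).comp π)
  obtain ⟨r, hr⟩ := jacobson_density (R := Γ) f Finset.univ
  let π' : V →ₗ[ZMod p] D := AddMonoidHom.toZModLinearMap p π.toAddMonoidHom
  let ι' : D →ₗ[ZMod p] V := AddMonoidHom.toZModLinearMap p ι.toAddMonoidHom
  refine ⟨r, ι'.comp ((LinearMap.mulLeft (ZMod p) d).comp π'), fun x => ?_, ?_⟩
  · rw [← hr x (Finset.mem_univ x)]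
    change ι (d * π x) = ι (π x * d)
    rw [mul_comm]
  · rw [LinearMap.trace_comp_comm', LinearMap.comp_assoc]
    have h1 : π'.comp ι' = LinearMap.id := LinearMap.ext hπ'
    rw [h1, LinearMap.comp_id]
    exact hd

end Ring

end Cfsg.Agent.H976.Cop
end

-- part: H976/Cop/Crit
section
/-!
# Criterion: elements conjugate to their inverses under automorphisms (S4175)

`RP p H` : for every `h ∈ H` some `p`-power power of `h⁻¹` is the image under an automorphism of `H` of a `p`-power power of
`h`.  Then the dual of every irreducible `F_p H`-module is twisted by an automorphism of `H`, and `copRow_of_rp`.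
-/

set_option autoImplicit false

namespace Cfsg.Agent.H976.Cop

open MonoidAlgebra Matrix

variable {p : ℕ} [Fact p.Prime] {n : ℕ} {H : Type*} [Group H]

/-- representations on `F_p ^ n` -/
abbrev Rp (p : ℕ) [Fact p.Prime] (n : ℕ) (H : Type*) [Group H] := Representation (ZMod p) H (Fin n → ZMod p)

/-- the dual representation -/
noncomputable def dl (ρ : Rp p n H) : Rp p n H where
  toFun h := Matrix.toLin' (LinearMap.toMatrix' (ρ h⁻¹))ᵀ
  map_one' := by simp; rfl
  map_mul' g h := by
    rw [_root_.mul_inv_rev, map_mul, LinearMap.toMatrix'_mul, Matrix.transpose_mul, Matrix.toLin'_mul]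
    rfl

theorem dl_dot (ρ : Rp p n H) (h : H) (v w : Fin n → ZMod p) : dl ρ h v ⬝ᵥ w = v ⬝ᵥ ρ h⁻¹ w := by
  change Matrix.toLin' (LinearMap.toMatrix' (ρ h⁻¹))ᵀ v ⬝ᵥ w = _
  rw [Matrix.toLin'_apply, Matrix.mulVec_transpose, ← Matrix.dotProduct_mulVec, ← Matrix.toLin'_apply,
    Matrix.toLin'_toMatrix']

theorem dl_trace (ρ : Rp p n H) (h : H) :
    LinearMap.trace (ZMod p) _ (dl ρ h) = LinearMap.trace (ZMod p) _ (ρ h⁻¹) := by
  change LinearMap.trace (ZMod p) _ (Matrix.toLin' (LinearMap.toMatrix' (ρ h⁻¹))ᵀ) = _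
  rw [Matrix.trace_toLin'_eq, Matrix.trace_transpose, ← Matrix.trace_toLin'_eq, Matrix.toLin'_toMatrix']

theorem dl_irr {ρ : Rp p n H} (hirr : Irr ρ) : Irr (dl ρ) := by
  intro W hW
  let W' : Submodule (ZMod p) (Fin n → ZMod p) :=
    { carrier := {w | ∀ v ∈ W, v ⬝ᵥ w = 0}
      add_mem' := fun {a b} ha hb v hv => by rw [dotProduct_add, ha v hv, hb v hv, add_zero]
      zero_mem' := fun v _ => dotProduct_zero v
      smul_mem' := fun c w hw v hv => by rw [dotProduct_smul, hw v hv, smul_zero] }
  have hW' : ∀ h : H, ∀ w ∈ W', ρ h w ∈ W' := by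
    intro h w hw v hv
    have h1 := dl_dot ρ h⁻¹ v w
    rw [inv_inv] at h1
    rw [← h1]
    exact hw _ (hW h⁻¹ v hv)
  rcases hirr W' hW' with h1 | h1
  · right
    by_contra hne
    obtain ⟨f, hf0, hf⟩ := Submodule.exists_le_ker_of_lt_top W (lt_top_iff_ne_top.2 hne)
    let w : Fin n → ZMod p := fun i => f (Pi.single i 1)
    have hfw : ∀ v, f v = v ⬝ᵥ w := by
      intro v
      rw [LinearMap.pi_apply_eq_sum_univ f v]
      simp only [dotProduct, smul_eq_mul]
      refine Finset.sum_congr rfl fun i _ => ?_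
      congr 2
      funext j
      simp [Pi.single_apply, eq_comm]
    have hw : w ∈ W' := fun v hv => by rw [← hfw]; exact hf hv
    rw [h1, Submodule.mem_bot] at hw
    apply hf0
    ext i
    change f _ = 0
    rw [hfw, hw, dotProduct_zero]
  · left
    rw [eq_bot_iff]
    intro v hv
    rw [Submodule.mem_bot]
    funext i
    have h2 : (Pi.single i 1 : Fin n → ZMod p) ∈ W' := by rw [h1]; trivial
    have h3 := h2 v hv
    rw [dotProduct_single, mul_one] at h3
    exact h3

/-- twist with an automorphism -/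
def tw (ρ : Rp p n H) (α : MulAut H) : Rp p n H := ρ.comp α.toMonoidHom

theorem tw_apply (ρ : Rp p n H) (α : MulAut H) (h : H) : tw ρ α h = ρ (α h) := rfl

theorem tw_irr {ρ : Rp p n H} (hirr : Irr ρ) (α : MulAut H) : Irr (tw ρ α) := by
  intro W hW
  refine hirr W fun h w hw => ?_
  have h1 := hW (α.symm h) w hw
  rwa [tw_apply, MulEquiv.apply_symm_apply] at h1

/-- equivalent representations -/
def Eqv (ρ σ : Rp p n H) : Prop :=
  ∃ φ : (Fin n → ZMod p) ≃ₗ[ZMod p] (Fin n → ZMod p), ∀ h v, φ (ρ h v) = σ h (φ v)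

theorem Eqv.refl (ρ : Rp p n H) : Eqv ρ ρ := ⟨LinearEquiv.refl _ _, fun _ _ => rfl⟩

theorem Eqv.symm {ρ σ : Rp p n H} (h : Eqv ρ σ) : Eqv σ ρ := by
  obtain ⟨φ, hφ⟩ := h
  refine ⟨φ.symm, fun g v => φ.injective ?_⟩
  rw [hφ, LinearEquiv.apply_symm_apply, LinearEquiv.apply_symm_apply]

theorem Eqv.trans {ρ σ τ : Rp p n H} (h : Eqv ρ σ) (h' : Eqv σ τ) : Eqv ρ τ := by
  obtain ⟨φ, hφ⟩ := h
  obtain ⟨ψ, hψ⟩ := h'
  refine ⟨φ.trans ψ, fun g v => ?_⟩
  rw [LinearEquiv.trans_apply, LinearEquiv.trans_apply, hφ, hψ]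

theorem Eqv.trace {ρ σ : Rp p n H} (h : Eqv ρ σ) (g : H) :
    LinearMap.trace (ZMod p) _ (ρ g) = LinearMap.trace (ZMod p) _ (σ g) := by
  obtain ⟨φ, hφ⟩ := h
  have h1 : σ g = φ.conj (ρ g) := by
    apply LinearMap.ext
    intro v
    rw [LinearEquiv.conj_apply_apply, hφ, LinearEquiv.apply_symm_apply]
  rw [h1, LinearMap.trace_conj']

theorem Eqv.tw {ρ σ : Rp p n H} (h : Eqv ρ σ) (α : MulAut H) : Eqv (Cop.tw ρ α) (Cop.tw σ α) := by
  obtain ⟨φ, hφ⟩ := h
  exact ⟨φ, fun g v => hφ (α g) v⟩

theorem Eqv.dl {ρ σ : Rp p n H} (h : Eqv ρ σ) : Eqv (Cop.dl ρ) (Cop.dl σ) := by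
  obtain ⟨φ, hφ⟩ := h
  -- the transposed inverse
  let M := LinearMap.toMatrix' φ.symm.toLinearMap
  let N := LinearMap.toMatrix' φ.toLinearMap
  have hMN : M * N = 1 := by
    rw [← LinearMap.toMatrix'_comp, LinearEquiv.symm_comp, LinearMap.toMatrix'_id]
  have hNM : N * M = 1 := by
    rw [← LinearMap.toMatrix'_comp, LinearEquiv.comp_symm, LinearMap.toMatrix'_id]
  have h1 : Mᵀ * Nᵀ = 1 := by rw [← Matrix.transpose_mul, hNM, Matrix.transpose_one]
  have h2 : Nᵀ * Mᵀ = 1 := by rw [← Matrix.transpose_mul, hMN, Matrix.transpose_one]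
  have hd : ∀ v w, Matrix.toLin' Mᵀ v ⬝ᵥ w = v ⬝ᵥ φ.symm w := by
    intro v w
    rw [Matrix.toLin'_apply, Matrix.mulVec_transpose, ← Matrix.dotProduct_mulVec, ← Matrix.toLin'_apply,
      Matrix.toLin'_toMatrix']
    rfl
  have hext : ∀ a b : Fin n → ZMod p, (∀ w, a ⬝ᵥ w = b ⬝ᵥ w) → a = b := fun a b hab => by
    funext i
    have := hab (Pi.single i 1)
    rwa [dotProduct_single, dotProduct_single, mul_one, mul_one] at this
  refine ⟨LinearEquiv.ofLinearMap (Matrix.toLin' Mᵀ) (Matrix.toLin' Nᵀ) ?_ ?_, fun g v => ?_⟩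
  · rw [← Matrix.toLin'_mul, h1, Matrix.toLin'_one]
  · rw [← Matrix.toLin'_mul, h2, Matrix.toLin'_one]
  · change Matrix.toLin' Mᵀ (Cop.dl ρ g v) = Cop.dl σ g (Matrix.toLin' Mᵀ v)
    apply hext
    intro w
    rw [hd, dl_dot, dl_dot, hd]
    congr 1
    apply φ.injective
    rw [hφ, LinearEquiv.apply_symm_apply, LinearEquiv.apply_symm_apply]

theorem dl_dl (ρ : Rp p n H) : dl (dl ρ) = ρ := by
  apply MonoidHom.ext
  intro h
  apply LinearMap.ext
  intro v
  have hext : ∀ a b : Fin n → ZMod p, (∀ w, a ⬝ᵥ w = b ⬝ᵥ w) → a = b := fun a b hab => by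
    funext i
    have := hab (Pi.single i 1)
    rwa [dotProduct_single, dotProduct_single, mul_one, mul_one] at this
  apply hext
  intro w
  rw [dl_dot, dotProduct_comm, dl_dot, inv_inv, dotProduct_comm]

section Mod

theorem simple_of_irr {ρ : Rp p n H} (hirr : Irr ρ) (hn : Nontrivial (Fin n → ZMod p)) :
    IsSimpleModule (MonoidAlgebra (ZMod p) H) ρ.asModule := by
  have hn' : Nontrivial ρ.asModule := hn
  refine (isSimpleModule_iff _ _).2 ⟨fun N => ?_⟩
  let W : Submodule (ZMod p) (Fin n → ZMod p) :=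
    { carrier := {v | ρ.asModuleEquiv.symm v ∈ N}
      add_mem' := fun {a b} ha hb => by
        change ρ.asModuleEquiv.symm (a + b) ∈ N
        rw [map_add]; exact N.add_mem ha hb
      zero_mem' := by
        change ρ.asModuleEquiv.symm 0 ∈ N
        rw [map_zero]; exact N.zero_mem
      smul_mem' := fun c v hv => by
        change ρ.asModuleEquiv.symm (c • v) ∈ N
        rw [Representation.asModuleEquiv_symm_map_smul]
        exact N.smul_mem _ hv }
  have h1 := hirr W (by
    intro h w hw
    change ρ.asModuleEquiv.symm (ρ h w) ∈ N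
    rw [Representation.asModuleEquiv_symm_map_rho]
    exact N.smul_mem _ hw)
  rcases h1 with h1 | h1
  · left
    rw [eq_bot_iff]
    intro x hx
    have h2 : ρ.asModuleEquiv x ∈ W := by
      change ρ.asModuleEquiv.symm (ρ.asModuleEquiv x) ∈ N
      rw [LinearEquiv.symm_apply_apply]; exact hx
    rw [h1, Submodule.mem_bot] at h2
    rw [Submodule.mem_bot]
    exact (LinearEquiv.map_eq_zero_iff _).1 h2
  · right
    rw [eq_top_iff]
    intro x _
    have h2 : ρ.asModuleEquiv x ∈ W := by rw [h1]; trivial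
    have h3 : ρ.asModuleEquiv.symm (ρ.asModuleEquiv x) ∈ N := h2
    rwa [LinearEquiv.symm_apply_apply] at h3

theorem eqv_of_iso {ρ σ : Rp p n H} (e : ρ.asModule ≃ₗ[MonoidAlgebra (ZMod p) H] σ.asModule) : Eqv ρ σ := by
  refine ⟨(ρ.asModuleEquiv.symm.trans (e.restrictScalars (ZMod p))).trans σ.asModuleEquiv, fun h v => ?_⟩
  change σ.asModuleEquiv (e (ρ.asModuleEquiv.symm (ρ h v))) = σ h (σ.asModuleEquiv (e (ρ.asModuleEquiv.symm v)))
  rw [Representation.asModuleEquiv_symm_map_rho, map_smul, Representation.asModuleEquiv_map_smul,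
    Representation.asAlgebraHom_of]

end Mod

end Cfsg.Agent.H976.Cop
end

-- part: H976/Cop/Main
section
/-!
# The criterion for `CopRow` (S4175)

`copRow_of_rp` : if for every prime `p` and every `h ∈ H` some `p`-power power of `h⁻¹` is the image under an automorphism
of a `p`-power power of `h`, then `CopRow H`; in particular if every element is mapped to its inverse by some automorphism
(`copRow_of_real`).
-/

set_option autoImplicit false

namespace Cfsg.Agent.H976.Cop

open MonoidAlgebra Matrix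

variable {p : ℕ} [hp : Fact p.Prime] {n : ℕ} {H : Type*} [Group H]

theorem trace_pow_p (ρ : Rp p n H) (h : H) :
    LinearMap.trace (ZMod p) _ (ρ (h ^ p)) = LinearMap.trace (ZMod p) _ (ρ h) := by
  have h1 := ZMod.trace_pow_card (LinearMap.toMatrix' (ρ h))
  rw [ZMod.pow_card] at h1
  rw [map_pow, ← Matrix.toLin'_toMatrix' (ρ h ^ p), Matrix.trace_toLin'_eq,
    ← Matrix.toLin'_toMatrix' (ρ h), Matrix.trace_toLin'_eq, Matrix.toLin'_toMatrix']
  rw [← h1]
  congr 1
  generalize ρ h = f
  clear h1
  have : ∀ m : ℕ, LinearMap.toMatrix' (f ^ m) = LinearMap.toMatrix' f ^ m := by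
    intro m
    induction m with
    | zero => simp [Module.End.one_eq_id]
    | succ m ih => rw [pow_succ, LinearMap.toMatrix'_mul, ih, pow_succ]
  exact this p

theorem trace_pow_pow (ρ : Rp p n H) (h : H) (i : ℕ) :
    LinearMap.trace (ZMod p) _ (ρ (h ^ p ^ i)) = LinearMap.trace (ZMod p) _ (ρ h) := by
  induction i with
  | zero => rw [pow_zero, pow_one]
  | succ i ih => rw [pow_succ, pow_mul, trace_pow_p, ih]

/-- twist classes -/
def stw (ρ : Rp p n H) : Setoid (MulAut H) where
  r α β := Eqv (tw ρ α) (tw ρ β)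
  iseqv := ⟨fun _ => Eqv.refl _, fun h => h.symm, fun h h' => h.trans h'⟩

theorem asAlg_zero {ρ : Rp p n H} {r : MonoidAlgebra (ZMod p) H} (h : ∀ v : ρ.asModule, r • v = 0) :
    ρ.asAlgebraHom r = 0 := by
  apply LinearMap.ext
  intro v
  have h1 := h (ρ.asModuleEquiv.symm v)
  have h2 := ρ.asModuleEquiv_map_smul r (ρ.asModuleEquiv.symm v)
  rw [h1, map_zero, LinearEquiv.apply_symm_apply] at h2
  exact h2.symm

theorem asAlg_one {ρ : Rp p n H} {r : MonoidAlgebra (ZMod p) H} (h : ∀ v : ρ.asModule, r • v = v) :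
    ρ.asAlgebraHom r = 1 := by
  apply LinearMap.ext
  intro v
  have h1 := h (ρ.asModuleEquiv.symm v)
  have h2 := ρ.asModuleEquiv_map_smul r (ρ.asModuleEquiv.symm v)
  rw [h1, LinearEquiv.apply_symm_apply] at h2
  exact h2.symm

/-- the family of the twists and their duals -/
noncomputable def fam (ρ : Rp p n H) : Quotient (stw ρ) ⊕ Quotient (stw ρ) → Rp p n H
  | Sum.inl c => tw ρ c.out
  | Sum.inr c => dl (tw ρ c.out)

theorem exists_twist [Finite H] {ρ : Rp p n H} (hirr : Irr ρ) (hn : Nontrivial (Fin n → ZMod p))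
    (hRP : ∀ h : H, ∃ (α : MulAut H) (i j : ℕ), h⁻¹ ^ p ^ i = α (h ^ p ^ j)) :
    ∃ α : MulAut H, Eqv (dl ρ) (tw ρ α) := by
  classical
  by_contra hcon
  push Not at hcon
  let Q := Quotient (stw ρ)
  have hfin : Finite (MulAut H) := Finite.of_injective (fun f : MulAut H => (f : H → H)) DFunLike.coe_injective
  have hQ : Finite Q := Quotient.finite _
  have := Fintype.ofFinite Q
  have hout : ∀ α : MulAut H, Eqv (tw ρ (Quotient.mk (stw ρ) α).out) (tw ρ α) := fun α =>
    Quotient.exact (s := stw ρ) (Quotient.out_eq _)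
  have hRirr : ∀ i : Q ⊕ Q, Irr (fam ρ i) := by
    rintro (c | c)
    · exact tw_irr hirr _
    · exact dl_irr (tw_irr hirr _)
  have hsimp : ∀ i : Q ⊕ Q, IsSimpleModule (MonoidAlgebra (ZMod p) H) (fam ρ i).asModule := fun i => simple_of_irr (hRirr i) hn
  have hfinV : ∀ i : Q ⊕ Q, Finite (fam ρ i).asModule := fun i => (inferInstance : Finite (Fin n → ZMod p))
  let c0 : Q := Quotient.mk (stw ρ) 1
  obtain ⟨r, hr1, hr0⟩ := exists_sep_family (Γ := MonoidAlgebra (ZMod p) H) (V := fun i : Q ⊕ Q => (fam ρ i).asModule)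
    (Sum.inr c0) (by
      rintro (c | c) hc
      · refine ⟨fun e => hcon c.out ?_⟩
        have h1 : Eqv (dl (tw ρ c0.out)) (tw ρ c.out) := eqv_of_iso e
        exact ((hout 1).dl.symm).trans h1
      · refine ⟨fun e => hc ?_⟩
        have h1 : Eqv (dl (tw ρ c0.out)) (dl (tw ρ c.out)) := eqv_of_iso e
        have h2 := h1.dl
        rw [dl_dl, dl_dl] at h2
        have h3 : c0 = c := by
          have h4 : Quotient.mk (stw ρ) c0.out = Quotient.mk (stw ρ) c.out := Quotient.sound (s := stw ρ) h2
          rwa [Quotient.out_eq, Quotient.out_eq] at h4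
        rw [h3])
  obtain ⟨y, f, hf, hft⟩ := exists_trace (Γ := MonoidAlgebra (ZMod p) H) p (V := (fam ρ (Sum.inr c0)).asModule)
  -- the trace functions
  let T : MonoidAlgebra (ZMod p) H →ₗ[ZMod p] ZMod p :=
    ∑ c : Q, (LinearMap.trace (ZMod p) _).comp (fam ρ (Sum.inl c)).asAlgebraHom.toLinearMap
  let T' : MonoidAlgebra (ZMod p) H →ₗ[ZMod p] ZMod p :=
    ∑ c : Q, (LinearMap.trace (ZMod p) _).comp (fam ρ (Sum.inr c)).asAlgebraHom.toLinearMap
  -- `t` is invariant under automorphisms
  let t : H → ZMod p := fun h => ∑ c : Q, LinearMap.trace (ZMod p) _ (ρ (c.out h))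
  have ht1 : ∀ (β : MulAut H) (h : H), t (β h) = t h := by
    intro β h
    let e : Q ≃ Q :=
      { toFun := Quotient.map (sa := stw ρ) (sb := stw ρ) (fun α => α * β) (fun a b (hab : Eqv (tw ρ a) (tw ρ b)) =>
          (hab.tw β : Eqv (tw ρ (a * β)) (tw ρ (b * β))))
        invFun := Quotient.map (sa := stw ρ) (sb := stw ρ) (fun α => α * β⁻¹) (fun a b (hab : Eqv (tw ρ a) (tw ρ b)) =>
          (hab.tw β⁻¹ : Eqv (tw ρ (a * β⁻¹)) (tw ρ (b * β⁻¹))))
        left_inv := by
          intro c
          induction c using Quotient.inductionOn with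
          | h a => change Quotient.mk (stw ρ) (a * β * β⁻¹) = Quotient.mk (stw ρ) a; rw [mul_inv_cancel_right]
        right_inv := by
          intro c
          induction c using Quotient.inductionOn with
          | h a => change Quotient.mk (stw ρ) (a * β⁻¹ * β) = Quotient.mk (stw ρ) a; rw [inv_mul_cancel_right] }
    change ∑ c : Q, LinearMap.trace (ZMod p) _ (ρ (c.out (β h))) = ∑ c : Q, LinearMap.trace (ZMod p) _ (ρ (c.out h))
    refine Eq.trans ?_ (Equiv.sum_comp e (fun c : Q => LinearMap.trace (ZMod p) _ (ρ (c.out h))))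
    refine Finset.sum_congr rfl fun c _ => ?_
    have h1 : e c = Quotient.mk (stw ρ) (c.out * β) := by
      conv_lhs => rw [← Quotient.out_eq c]
      rfl
    rw [h1]
    exact ((hout (c.out * β)).trace h).symm
  have ht2 : ∀ (h : H) (i : ℕ), t (h ^ p ^ i) = t h := by
    intro h i
    refine Finset.sum_congr rfl fun c _ => ?_
    rw [map_pow, trace_pow_pow]
  have ht3 : ∀ h : H, t h⁻¹ = t h := by
    intro h
    obtain ⟨α, i, j, hα⟩ := hRP h
    rw [← ht2 h⁻¹ i, hα, ht1, ht2]
  have hTT : T = T' := by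
    apply MonoidAlgebra.lhom_ext'
    intro g
    apply LinearMap.ext
    intro c
    change T (MonoidAlgebra.single g c) = T' (MonoidAlgebra.single g c)
    have h1 : T (MonoidAlgebra.single g c) = c * t g := by
      change (∑ c : Q, (LinearMap.trace (ZMod p) _).comp (fam ρ (Sum.inl c)).asAlgebraHom.toLinearMap)
        (MonoidAlgebra.single g c) = _
      rw [LinearMap.sum_apply, Finset.mul_sum]
      refine Finset.sum_congr rfl fun d _ => ?_
      change LinearMap.trace (ZMod p) _ ((fam ρ (Sum.inl d)).asAlgebraHom (MonoidAlgebra.single g c)) = _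
      rw [Representation.asAlgebraHom_single, map_smul, smul_eq_mul]
      rfl
    have h2 : T' (MonoidAlgebra.single g c) = c * t g⁻¹ := by
      change (∑ c : Q, (LinearMap.trace (ZMod p) _).comp (fam ρ (Sum.inr c)).asAlgebraHom.toLinearMap)
        (MonoidAlgebra.single g c) = _
      rw [LinearMap.sum_apply, Finset.mul_sum]
      refine Finset.sum_congr rfl fun d _ => ?_
      change LinearMap.trace (ZMod p) _ ((fam ρ (Sum.inr d)).asAlgebraHom (MonoidAlgebra.single g c)) = _
      rw [Representation.asAlgebraHom_single, map_smul, smul_eq_mul]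
      change c * LinearMap.trace (ZMod p) _ (dl (tw ρ d.out) g) = _
      rw [dl_trace]
      rfl
    rw [h1, h2, ht3]
  have hT : T (r * y) = 0 := by
    change (∑ c : Q, (LinearMap.trace (ZMod p) _).comp (fam ρ (Sum.inl c)).asAlgebraHom.toLinearMap) (r * y) = 0
    rw [LinearMap.sum_apply]
    refine Finset.sum_eq_zero fun d _ => ?_
    change LinearMap.trace (ZMod p) _ ((fam ρ (Sum.inl d)).asAlgebraHom (r * y)) = 0
    rw [map_mul, asAlg_zero (hr0 (Sum.inl d) (by simp)), zero_mul, map_zero]
  have hT' : T' (r * y) = LinearMap.trace (ZMod p) _ f := by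
    change (∑ c : Q, (LinearMap.trace (ZMod p) _).comp (fam ρ (Sum.inr c)).asAlgebraHom.toLinearMap) (r * y) = _
    rw [LinearMap.sum_apply, Finset.sum_eq_single c0]
    · change LinearMap.trace (ZMod p) _ ((fam ρ (Sum.inr c0)).asAlgebraHom (r * y)) = _
      rw [map_mul, asAlg_one hr1, one_mul]
      have h1 : (fam ρ (Sum.inr c0)).asAlgebraHom y = (fam ρ (Sum.inr c0)).asModuleEquiv.conj f := by
        apply LinearMap.ext
        intro v
        rw [LinearEquiv.conj_apply_apply, hf, Representation.asModuleEquiv_map_smul, LinearEquiv.apply_symm_apply]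
      rw [h1, LinearMap.trace_conj']
    · intro d _ hd
      change LinearMap.trace (ZMod p) _ ((fam ρ (Sum.inr d)).asAlgebraHom (r * y)) = 0
      rw [map_mul, asAlg_zero (hr0 (Sum.inr d) (fun h => hd (Sum.inr_injective h))), zero_mul, map_zero]
    · intro h; exact absurd (Finset.mem_univ _) h
  apply hft
  rw [← hT', ← hTT, hT]

/-- a twisted dual kills coprime fixed vectors -/
theorem noCop_of_twist [Finite H] {ρ : Rp p n H} (hirr : Irr ρ) (hnt : NonTriv ρ) {α : MulAut H}
    (h : Eqv (dl ρ) (tw ρ α)) : NoCop ρ := by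
  intro A B hAB a b ha hb
  obtain ⟨φ, hφ⟩ := h
  by_contra hcon
  push Not at hcon
  let A' : Subgroup H := A.comap α.toMonoidHom
  have hA' : A'.index = A.index := Subgroup.index_comap_of_surjective A α.surjective
  let f : (Fin n → ZMod p) →ₗ[ZMod p] ZMod p :=
    { toFun := fun w => φ.symm a ⬝ᵥ w
      map_add' := fun x y => dotProduct_add _ _ _
      map_smul' := fun c x => dotProduct_smul _ _ _ }
  have hfix : ∀ x ∈ A', dl ρ x (φ.symm a) = φ.symm a := by
    intro x hx
    apply φ.injective
    rw [hφ, LinearEquiv.apply_symm_apply]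
    exact ha (α x) hx
  have h1 := pairing hirr hnt (A := A') (B := B) (fun g => by
    obtain ⟨x, hx, y, hy, e⟩ := exists_mul (A := A') (B := B) (by rw [hA']; exact hAB) g
    exact ⟨x, hx, y, hy, e⟩) (f := f) (fun x hx v => by
      change φ.symm a ⬝ᵥ ρ x v = φ.symm a ⬝ᵥ v
      have h2 := dl_dot ρ x⁻¹ (φ.symm a) v
      rw [inv_inv, hfix _ (A'.inv_mem hx)] at h2
      exact h2.symm) hb
  rcases h1 with h1 | h1
  · apply hcon.1
    have h2 : φ.symm a = 0 := by
      funext i
      have h3 := LinearMap.congr_fun h1 (Pi.single i 1)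
      change φ.symm a ⬝ᵥ Pi.single i 1 = 0 at h3
      rwa [dotProduct_single, mul_one] at h3
    exact (LinearEquiv.map_eq_zero_iff _).1 h2
  · exact hcon.2 h1

/-- **the criterion** -/
theorem copRow_of_rp {H : Type*} [Group H] [Finite H]
    (hRP : ∀ p : ℕ, p.Prime → ∀ h : H, ∃ (α : MulAut H) (i j : ℕ), h⁻¹ ^ p ^ i = α (h ^ p ^ j)) : CopRow H := by
  intro p hp n ρ hirr hnt
  have hn : Nontrivial (Fin n → ZMod p) := by
    obtain ⟨h, v, hv⟩ := hnt
    exact ⟨⟨_, _, hv⟩⟩
  obtain ⟨α, hα⟩ := exists_twist hirr hn (hRP p hp.out)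
  exact noCop_of_twist hirr hnt hα

end Cfsg.Agent.H976.Cop
end

-- part: H976/Cop/Bridge
section
/-!
# Rows: bridge to `H505.Cop.CopRow`, transport along isomorphisms, centre quotients

`Amb G`: every element of `G` is mapped to its inverse by an automorphism of `G`.
`RpRow G`: the weaker form used by `copRow_of_rp`.
-/

set_option autoImplicit false

namespace Cfsg.Agent.H976.Cop

/-- every element is mapped to its inverse by some automorphism -/
def Amb (G : Type*) [Group G] : Prop := ∀ x : G, ∃ α : MulAut G, α x = x⁻¹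

/-- for every prime `p`, a `p`-power of the inverse is an automorphic image of a `p`-power -/
def RpRow (G : Type*) [Group G] : Prop :=
  ∀ p : ℕ, p.Prime → ∀ h : G, ∃ (α : MulAut G) (i j : ℕ), h⁻¹ ^ p ^ i = α (h ^ p ^ j)

theorem Amb.rp {G : Type*} [Group G] (h : Amb G) : RpRow G := fun p _ x => by
  obtain ⟨α, hα⟩ := h x
  exact ⟨α, 0, 0, by rw [pow_zero, pow_one, pow_one, hα]⟩

theorem Amb.congr {G H : Type*} [Group G] [Group H] (e : G ≃* H) (h : Amb G) : Amb H := fun x => by
  obtain ⟨α, hα⟩ := h (e.symm x)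
  refine ⟨(e.symm.trans α).trans e, ?_⟩
  show e (α (e.symm x)) = x⁻¹
  rw [hα, ← map_inv, e.apply_symm_apply]

theorem RpRow.congr {G H : Type*} [Group G] [Group H] (e : G ≃* H) (h : RpRow G) : RpRow H := fun p hp x => by
  obtain ⟨α, i, j, hα⟩ := h p hp (e.symm x)
  refine ⟨(e.symm.trans α).trans e, i, j, ?_⟩
  show x⁻¹ ^ p ^ i = e (α (e.symm (x ^ p ^ j)))
  rw [map_pow e.symm, ← hα, map_pow, map_inv, e.apply_symm_apply]

/-- an automorphism descends to the quotient by a characteristic subgroup -/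
noncomputable def descend {G : Type*} [Group G] (N : Subgroup G) [N.Normal] [hN : N.Characteristic] (α : MulAut G) :
    MulAut (G ⧸ N) :=
  QuotientGroup.congr N N α (by
    exact (Subgroup.characteristic_iff_map_eq.1 hN) α)

theorem descend_mk {G : Type*} [Group G] (N : Subgroup G) [N.Normal] [N.Characteristic] (α : MulAut G) (x : G) :
    descend N α (x : G ⧸ N) = ((α x : G) : G ⧸ N) := rfl

theorem Amb.quot {G : Type*} [Group G] (h : Amb G) (N : Subgroup G) [N.Normal] [N.Characteristic] : Amb (G ⧸ N) := by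
  intro x
  induction x using QuotientGroup.induction_on with
  | H x =>
    obtain ⟨α, hα⟩ := h x
    exact ⟨descend N α, by rw [descend_mk, hα]; rfl⟩

theorem RpRow.quot {G : Type*} [Group G] (h : RpRow G) (N : Subgroup G) [N.Normal] [N.Characteristic] :
    RpRow (G ⧸ N) := by
  intro p hp x
  induction x using QuotientGroup.induction_on with
  | H x =>
    obtain ⟨α, i, j, hα⟩ := h p hp x
    refine ⟨descend N α, i, j, ?_⟩
    have h1 : (x : G ⧸ N) ^ p ^ j = ((x ^ p ^ j : G) : G ⧸ N) := rfl
    rw [h1, descend_mk, ← hα]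
    rfl

/-- my row predicate implies that of `H505` -/
theorem toH505 {H : Type*} [Group H] [Finite H] (h : CopRow H) : Cfsg.Agent.H505.Cop.CopRow H := by
  intro p hp V _ _ _ ρ hirr hnt A B hAB a b ha hb
  have hfd : FiniteDimensional (ZMod p) V := inferInstance
  let e : V ≃ₗ[ZMod p] (Fin (Module.finrank (ZMod p) V) → ZMod p) :=
    LinearEquiv.ofFinrankEq _ _ (by rw [Module.finrank_fin_fun])
  let σ : Representation (ZMod p) H (Fin (Module.finrank (ZMod p) V) → ZMod p) :=
    { toFun := fun g => e.toLinearMap ∘ₗ (ρ g) ∘ₗ e.symm.toLinearMap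
      map_one' := by
        apply LinearMap.ext
        intro v
        simp only [_root_.map_one, _root_.LinearMap.coe_comp, _root_.LinearEquiv.coe_coe, _root_.Function.comp_apply, _root_.Module.End.one_apply, _root_.LinearEquiv.apply_symm_apply]
      map_mul' := by
        intro x y
        apply LinearMap.ext
        intro v
        simp only [Module.End.mul_apply, _root_.map_mul, _root_.LinearMap.coe_comp, _root_.LinearEquiv.coe_coe, _root_.Function.comp_apply, _root_.LinearEquiv.symm_apply_apply] }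
  have hσ : ∀ g v, σ g (e v) = e (ρ g v) := by
    intro g v
    show e (ρ g (e.symm (e v))) = _
    rw [e.symm_apply_apply]
  have h1 : Irr σ := by
    intro W hW
    rcases hirr (W.comap e.toLinearMap) (by
      intro g w hw
      rw [Submodule.mem_comap] at hw ⊢
      have := hW g _ hw
      rw [LinearEquiv.coe_coe, hσ] at this
      exact this) with h2 | h2
    · left
      rw [eq_bot_iff]
      intro x hx
      have h3 : e.symm x ∈ W.comap e.toLinearMap := by
        rw [Submodule.mem_comap, LinearEquiv.coe_coe, e.apply_symm_apply]; exact hx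
      rw [h2, Submodule.mem_bot] at h3
      rw [Submodule.mem_bot]
      rw [← e.apply_symm_apply x, h3, map_zero]
    · right
      rw [eq_top_iff]
      intro x _
      have h3 : e.symm x ∈ W.comap e.toLinearMap := by rw [h2]; trivial
      rw [Submodule.mem_comap, LinearEquiv.coe_coe, e.apply_symm_apply] at h3
      exact h3
  have h2 : NonTriv σ := by
    obtain ⟨g, v, hv⟩ := hnt
    refine ⟨g, e v, ?_⟩
    rw [hσ]
    exact fun h => hv (e.injective h)
  rcases h p _ σ h1 h2 A B hAB (e a) (e b) (fun x hx => by rw [hσ, ha x hx]) (fun x hx => by rw [hσ, hb x hx]) with h3 | h3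
  · left
    exact (map_eq_zero_iff e e.injective).1 h3
  · right
    exact (map_eq_zero_iff e e.injective).1 h3

theorem RpRow.cop {H : Type*} [Group H] [Finite H] (h : RpRow H) : Cfsg.Agent.H505.Cop.CopRow H :=
  toH505 (copRow_of_rp h)

theorem Amb.cop {H : Type*} [Group H] [Finite H] (h : Amb H) : Cfsg.Agent.H505.Cop.CopRow H := h.rp.cop

end Cfsg.Agent.H976.Cop
end
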