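import Mathlib
import Cfsg.Agent.H976.Cop.Bridge
import Cfsg.Agent.LieClassical.OmegaReindex
import Cfsg.Agent.FastGrp
import Cfsg.Agent.Prune
set_option linter.all false
prune_inst 0x7ffffdffbbf83ddfffff7e7fa69eedfdffb9bfffa4dff9cb3fe021ffabdf6f0acdc163ad8bfb19fc1ef7c23410ec7bc3f9ffdeffe26bf87ffffd1ff41ffbffdffdf7b50811948c340f342ffe83f0778e7f3fffffffffffffffffffffffffffbeffbfffffffff
open scoped Cfsg.Agent.FastGrp

-- part: H976/Inv/Basic
section
/-!
# Isometries are inverted by (anti-)isometries: algebra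

`Dich π`: `π` divides `a` or is coprime to `a`, for every `a`.  `Fm`: an `R`-module `V` with an
`ε`-symmetric form `B` for which the adjoint of `a` is `st a`, and a quadratic map `Q`.
`Good`: there is a `st`-semilinear map `σ` with `B (σ x) (σ y) = B y x`, `Q (σ x) = Q x` and `σ ^ 2 = 1`.
-/

set_option autoImplicit false

namespace Cfsg.Agent.H976.Inv

open Polynomial Module

section Ring

variable {R : Type*} [CommRing R]

/-- `π` divides `a` or is coprime to `a`, for every `a`. -/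
def Dich (π : R) : Prop := ∀ a : R, π ∣ a ∨ IsCoprime π a

theorem Dich.val {π : R} (h : Dich π) : ∀ (k : ℕ) (a : R),
    π ^ (k + 1) ∣ a ∨ ∃ c e, c * a = π ^ k + π ^ (k + 1) * e := by
  intro k
  induction k with
  | zero =>
    intro a
    rcases h a with h1 | ⟨b, c, h1⟩
    · left; rwa [zero_add, pow_one]
    · right
      exact ⟨c, -b, by linear_combination h1⟩
  | succ k ih =>
    intro a
    rcases h a with ⟨a₁, rfl⟩ | h1
    · rcases ih a₁ with ⟨a₂, rfl⟩ | ⟨c, e, h2⟩
      · left; exact ⟨a₂, by ring⟩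
      · right; exact ⟨c, e, by linear_combination π * h2⟩
    · obtain ⟨b, c, h2⟩ := (h1.pow_left (m := k + 2))
      right
      exact ⟨π ^ (k + 1) * c, -(b * π ^ (k + 1)), by linear_combination π ^ (k + 1) * h2⟩

theorem Dich.val₂ {π : R} (h : Dich π) : ∀ (k : ℕ) (a b : R),
    (π ^ (k + 1) ∣ a ∧ π ^ (k + 1) ∣ b) ∨
    (∃ c e f, c * a = π ^ k + π ^ (k + 1) * e ∧ c * b = π ^ k * f) ∨
    (∃ c e f, c * b = π ^ k + π ^ (k + 1) * e ∧ c * a = π ^ k * f) := by
  intro k
  induction k with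
  | zero =>
    intro a b
    rcases h a with h1 | ⟨d, c, h1⟩
    · rcases h b with h2 | ⟨d, c, h2⟩
      · left; simpa only [_root_.zero_add, _root_.pow_one] using And.intro h1 h2
      · right; right
        exact ⟨c, -d, c * a, by linear_combination h2, by ring⟩
    · right; left
      exact ⟨c, -d, c * b, by linear_combination h1, by ring⟩
  | succ k ih =>
    intro a b
    by_cases ha : π ∣ a
    · by_cases hb : π ∣ b
      · obtain ⟨a₁, rfl⟩ := ha
        obtain ⟨b₁, rfl⟩ := hb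
        rcases ih a₁ b₁ with ⟨⟨a₂, rfl⟩, ⟨b₂, rfl⟩⟩ | ⟨c, e, f, h1, h2⟩ | ⟨c, e, f, h1, h2⟩
        · left; exact ⟨⟨a₂, by ring⟩, ⟨b₂, by ring⟩⟩
        · right; left
          exact ⟨c, e, f, by linear_combination π * h1, by linear_combination π * h2⟩
        · right; right
          exact ⟨c, e, f, by linear_combination π * h1, by linear_combination π * h2⟩
      · obtain ⟨d, c, h2⟩ := (((h b).resolve_left hb).pow_left (m := k + 2))
        right; right
        exact ⟨π ^ (k + 1) * c, -(d * π ^ (k + 1)), c * a, by linear_combination π ^ (k + 1) * h2, by ring⟩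
    · obtain ⟨d, c, h2⟩ := (((h a).resolve_left ha).pow_left (m := k + 2))
      right; left
      exact ⟨π ^ (k + 1) * c, -(d * π ^ (k + 1)), c * b, by linear_combination π ^ (k + 1) * h2, by ring⟩

variable {F : Type*} [Field F] [Algebra F R]

theorem exists_aeval {g : R} (hgen : Algebra.adjoin F {g} = ⊤) (a : R) : ∃ h : F[X], aeval g h = a := by
  have h1 : a ∈ Algebra.adjoin F {g} := by rw [hgen]; trivial
  rw [Algebra.adjoin_singleton_eq_range_aeval] at h1
  exact h1

theorem dich_of_irreducible {g : R} (hgen : Algebra.adjoin F {g} = ⊤) {f : F[X]} (hf : Irreducible f) :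
    Dich (aeval g f) := by
  intro a
  obtain ⟨h, rfl⟩ := exists_aeval hgen a
  rcases hf.isCoprime_or_dvd h with h1 | h1
  · right
    obtain ⟨u, w, h2⟩ := h1
    refine ⟨aeval g u, aeval g w, ?_⟩
    rw [← map_mul, ← map_mul, ← map_add, h2, map_one]
  · left
    exact _root_.map_dvd _ h1

theorem st_st {g : R} (hgen : Algebra.adjoin F {g} = ⊤) {st : R →ₐ[F] R} (hst : st g * g = 1) (a : R) :
    st (st a) = a := by
  have h1 : st (st g) = g := by
    have h2 : st (st g) * st g = 1 := by rw [← map_mul, hst, map_one]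
    calc st (st g) = st (st g) * (st g * g) := by rw [hst, mul_one]
      _ = (st (st g) * st g) * g := by ring
      _ = g := by rw [h2, one_mul]
  obtain ⟨p, rfl⟩ := exists_aeval hgen a
  rw [← aeval_algHom_apply, ← aeval_algHom_apply, h1]

theorem dich_sub_one {g : R} (hgen : Algebra.adjoin F {g} = ⊤) : Dich (g - 1) := by
  have h1 := dich_of_irreducible hgen (irreducible_X_sub_C (1 : F))
  rwa [map_sub, aeval_X, aeval_C, map_one] at h1

theorem gen_neg {g : R} (hgen : Algebra.adjoin F {g} = ⊤) : Algebra.adjoin F {-g} = ⊤ := by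
  rw [eq_top_iff, ← hgen]
  apply Algebra.adjoin_le
  rintro x rfl
  have h1 : -x ∈ Algebra.adjoin F {-x} := Algebra.subset_adjoin rfl
  have h2 := neg_mem h1
  rwa [neg_neg] at h2

/-- every element is a polynomial in `g - 1` -/
theorem gen_sub_one {g : R} (hgen : Algebra.adjoin F {g} = ⊤) : Algebra.adjoin F {g - 1} = ⊤ := by
  rw [eq_top_iff, ← hgen]
  apply Algebra.adjoin_le
  rintro x rfl
  have h1 : x - 1 ∈ Algebra.adjoin F {x - 1} := Algebra.subset_adjoin rfl
  have h2 := add_mem h1 (one_mem _)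
  rwa [sub_add_cancel] at h2

end Ring

section Form

variable {F : Type*} [Field F] {R : Type*} [CommRing R] [Algebra F R]

/-- Form data on an `R`-module. -/
structure Fm {V : Type*} [AddCommGroup V] [Module F V] [Module R V]
    (st : R →ₐ[F] R) (g : R) (ε κ : F) (B : V →ₗ[F] V →ₗ[F] F) (Q : V → F) : Prop where
  adj : ∀ (a : R) (x y : V), B (a • x) y = B x (st a • y)
  symm : ∀ x y, B x y = ε * B y x
  qadd : ∀ x y, Q (x + y) = Q x + Q y + κ * B x y
  qst : ∀ (a : R) (x : V), Q (a • x) = Q (st a • x)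
  qg : ∀ x : V, Q (g • x) = Q x
  qneg : ∀ x : V, Q (-x) = Q x
  hε : ε * ε = 1
  hκ : κ * ε = κ
  gen : Algebra.adjoin F {g} = ⊤
  inv : st g * g = 1

/-- non-degenerate -/
def Nd {V : Type*} [AddCommGroup V] [Module F V] (B : V →ₗ[F] V →ₗ[F] F) : Prop :=
  ∀ x, (∀ y, B x y = 0) → x = 0

/-- there is a semilinear (anti-)isometry -/
def Good {V : Type*} [AddCommGroup V] [Module F V] [Module R V]
    (st : R →ₐ[F] R) (B : V →ₗ[F] V →ₗ[F] F) (Q : V → F) : Prop :=
  ∃ σ : V →ₗ[F] V, (∀ (a : R) (x : V), σ (a • x) = st a • σ x) ∧ (∀ x y, B (σ x) (σ y) = B y x) ∧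
    (∀ x, Q (σ x) = Q x) ∧ ∀ x, σ (σ x) = x

variable {V : Type*} [AddCommGroup V] [Module F V] [Module R V] 
  {st : R →ₐ[F] R} {g : R} {ε κ : F} {B : V →ₗ[F] V →ₗ[F] F} {Q : V → F}

theorem Fm.q0 (h : Fm st g ε κ B Q) : Q 0 = 0 := by
  have h1 := h.qadd 0 0
  rw [add_zero, map_zero, mul_zero, add_zero] at h1
  linear_combination -h1

theorem Fm.stst (h : Fm st g ε κ B Q) (a : R) : st (st a) = a := st_st h.gen h.inv a

theorem Fm.neg (h : Fm st g ε κ B Q) : Fm st (-g) ε κ B Q where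
  adj := h.adj
  symm := h.symm
  qadd := h.qadd
  qst := h.qst
  qg x := by rw [neg_smul, h.qneg, h.qg]
  qneg := h.qneg
  hε := h.hε
  hκ := h.hκ
  gen := gen_neg h.gen
  inv := by rw [map_neg, neg_mul_neg, h.inv]

/-- construction of `σ` from a cover -/
theorem good_of_cover {X : Type*} [AddCommGroup X] [Module F X] [SMul R X] (ρ ρ' : X →ₗ[F] V)
    (hρ : ∀ (a : R) (ξ : X), ρ (a • ξ) = a • ρ ξ) (hρ' : ∀ (a : R) (ξ : X), ρ' (a • ξ) = st a • ρ' ξ)
    (hs : Function.Surjective ρ) (hi : ∀ ξ, ∃ η, ρ η = ρ' ξ ∧ ρ' η = ρ ξ)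
    (hB : ∀ ξ η, B (ρ' ξ) (ρ' η) = B (ρ η) (ρ ξ)) (hQ : ∀ ξ, Q (ρ' ξ) = Q (ρ ξ)) (hnd : Nd B) :
    Good st B Q := by
  have hs' : Function.Surjective ρ' := by
    intro x
    obtain ⟨ξ, rfl⟩ := hs x
    obtain ⟨η, -, hη⟩ := hi ξ
    exact ⟨η, hη⟩
  have hker : ∀ ξ, ρ ξ = 0 → ρ' ξ = 0 := by
    intro ξ h0
    apply hnd
    intro y
    obtain ⟨η, rfl⟩ := hs' y
    rw [hB, h0, map_zero]
  obtain ⟨s, hs1⟩ := LinearMap.exists_rightInverse_of_surjective ρ (LinearMap.range_eq_top.2 hs)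
  have hs2 : ∀ x, ρ (s x) = x := fun x => LinearMap.congr_fun hs1 x
  have key : ∀ ξ, ρ' (s (ρ ξ)) = ρ' ξ := by
    intro ξ
    have h1 : ρ (s (ρ ξ) - ξ) = 0 := by rw [map_sub, hs2, sub_self]
    have h2 := hker _ h1
    rwa [map_sub, sub_eq_zero] at h2
  refine ⟨ρ' ∘ₗ s, ?_, ?_, ?_, ?_⟩
  · intro a x
    obtain ⟨ξ, rfl⟩ := hs x
    show ρ' (s (a • ρ ξ)) = st a • ρ' (s (ρ ξ))
    rw [← hρ, key, key, hρ']
  · intro x y
    obtain ⟨ξ, rfl⟩ := hs x
    obtain ⟨η, rfl⟩ := hs y
    show B (ρ' (s (ρ ξ))) (ρ' (s (ρ η))) = _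
    rw [key, key, hB]
  · intro x
    obtain ⟨ξ, rfl⟩ := hs x
    show Q (ρ' (s (ρ ξ))) = _
    rw [key, hQ]
  · intro x
    obtain ⟨ξ, rfl⟩ := hs x
    obtain ⟨η, h1, h2⟩ := hi ξ
    show ρ' (s (ρ' (s (ρ ξ)))) = _
    rw [key, ← h1, key, h2]

theorem Good.inj {B : V →ₗ[F] V →ₗ[F] F} (hnd : Nd B) {ε : F} (hsym : ∀ x y, B x y = ε * B y x)
    {σ : V →ₗ[F] V} (hσ : ∀ x y, B (σ x) (σ y) = B y x) : Function.Injective σ := by
  rw [injective_iff_map_eq_zero]
  intro x hx
  apply hnd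
  intro y
  rw [hsym, ← hσ x y, hx, map_zero, LinearMap.zero_apply, mul_zero]

end Form

end Cfsg.Agent.H976.Inv
end

-- part: H976/Inv/Split
section
/-!
# Orthogonal splitting
-/

set_option autoImplicit false

namespace Cfsg.Agent.H976.Inv

open Module

variable {F : Type*} [Field F] {R : Type*} [CommRing R] [Algebra F R]
variable {V : Type*} [AddCommGroup V] [Module F V] [Module R V] [IsScalarTower F R V]
  {st : R →ₐ[F] R} {g : R} {ε κ : F} {B : V →ₗ[F] V →ₗ[F] F} {Q : V → F}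

/-- inclusion of a submodule, as an `F`-linear map -/
abbrev inc (F : Type*) [Field F] {R : Type*} [CommRing R] [Algebra F R] {V : Type*} [AddCommGroup V] [Module F V]
    [Module R V] [IsScalarTower F R V] (U : Submodule R V) : U →ₗ[F] V := U.subtype.restrictScalars F

/-- restriction of the bilinear form -/
abbrev rB (B : V →ₗ[F] V →ₗ[F] F) (U : Submodule R V) : U →ₗ[F] U →ₗ[F] F := B.compl₁₂ (inc F U) (inc F U)

/-- restriction of the quadratic form -/
abbrev rQ (Q : V → F) (U : Submodule R V) : U → F := fun x => Q x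

theorem rB_apply (B : V →ₗ[F] V →ₗ[F] F) (U : Submodule R V) (x y : U) : rB B U x y = B x y := rfl

theorem Fm.restrict (h : Fm st g ε κ B Q) (U : Submodule R V) : Fm st g ε κ (rB B U) (rQ Q U) where
  adj a x y := h.adj a x y
  symm x y := h.symm x y
  qadd x y := h.qadd x y
  qst a x := h.qst a x
  qg x := h.qg x
  qneg x := h.qneg x
  hε := h.hε
  hκ := h.hκ
  gen := h.gen
  inv := h.inv

/-- orthogonal complement -/
def perp (h : Fm st g ε κ B Q) (U : Submodule R V) : Submodule R V where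
  carrier := {x | ∀ y ∈ U, B x y = 0}
  add_mem' := by
    intro x y hx hy z hz
    rw [map_add, LinearMap.add_apply, hx z hz, hy z hz, add_zero]
  zero_mem' := by
    intro z _
    rw [map_zero, LinearMap.zero_apply]
  smul_mem' := by
    intro a x hx z hz
    rw [h.adj]
    exact hx _ (U.smul_mem _ hz)

theorem mem_perp {h : Fm st g ε κ B Q} {U : Submodule R V} {x : V} : x ∈ perp h U ↔ ∀ y ∈ U, B x y = 0 := Iff.rfl

theorem finite_sub [FiniteDimensional F V] (U : Submodule R V) : FiniteDimensional F U :=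
  Module.Finite.of_injective (inc F U) (fun _ _ h => Subtype.ext h)

theorem exists_proj [FiniteDimensional F V] (h : Fm st g ε κ B Q) (U : Submodule R V) (hU : Nd (rB B U)) (x : V) :
    ∃ u : U, ∃ w : perp h U, (u : V) + w = x := by
  have := finite_sub (F := F) U
  have hinj : Function.Injective (rB B U) := by
    rw [injective_iff_map_eq_zero]
    intro u hu
    apply hU
    intro y
    rw [hu, LinearMap.zero_apply]
  have hsurj : Function.Surjective (rB B U) := by
    have h1 : finrank F U = finrank F (Dual F U) := Subspace.dual_finrank_eq.symm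
    exact (LinearMap.injective_iff_surjective_of_finrank_eq_finrank h1).1 hinj
  obtain ⟨u, hu⟩ := hsurj ((B x).comp (inc F U))
  refine ⟨u, ⟨x - u, ?_⟩, by simp⟩
  rw [mem_perp]
  intro y hy
  have h2 := LinearMap.congr_fun hu ⟨y, hy⟩
  have h3 : B (u : V) y = B x y := h2
  rw [map_sub, LinearMap.sub_apply, h3, sub_self]

theorem nd_perp [FiniteDimensional F V] (h : Fm st g ε κ B Q) (hnd : Nd B) (U : Submodule R V) (hU : Nd (rB B U)) :
    Nd (rB B (perp h U)) := by
  intro x hx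
  apply Subtype.ext
  apply hnd
  intro y
  obtain ⟨u, w, rfl⟩ := exists_proj h U hU y
  rw [map_add]
  have h1 : B (x : V) (u : V) = 0 := x.2 u u.2
  have h2 : B (x : V) (w : V) = 0 := hx w
  rw [h1, h2, add_zero]

theorem good_of_split [FiniteDimensional F V] (h : Fm st g ε κ B Q) (hnd : Nd B) (U : Submodule R V) (hU : Nd (rB B U))
    (h1 : Good st (rB B U) (rQ Q U)) (h2 : Good st (rB B (perp h U)) (rQ Q (perp h U))) : Good st B Q := by
  have := finite_sub (F := F) U
  have := finite_sub (F := F) (perp h U)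
  obtain ⟨σ, hσ1, hσ2, hσ3, hσ4⟩ := h1
  obtain ⟨τ, hτ1, hτ2, hτ3, hτ4⟩ := h2
  have horth : ∀ (u : U) (w : perp h U), B (w : V) (u : V) = 0 := fun u w => w.2 u u.2
  have horth' : ∀ (u : U) (w : perp h U), B (u : V) (w : V) = 0 := fun u w => by rw [h.symm, horth, mul_zero]
  let ρ : (U × perp h U) →ₗ[F] V := (inc F U).coprod (inc F (perp h U))
  let ρ' : (U × perp h U) →ₗ[F] V := ((inc F U) ∘ₗ σ).coprod ((inc F (perp h U)) ∘ₗ τ)
  have e1 : ∀ ξ, ρ ξ = (ξ.1 : V) + (ξ.2 : V) := fun ξ => rfl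
  have e2 : ∀ ξ, ρ' ξ = (σ ξ.1 : V) + (τ ξ.2 : V) := fun ξ => rfl
  refine good_of_cover ρ ρ' ?_ ?_ ?_ ?_ ?_ ?_ hnd
  · intro a ξ
    rw [e1, e1, smul_add]; rfl
  · intro a ξ
    rw [e2, e2, smul_add, Prod.smul_fst, Prod.smul_snd, hσ1, hτ1]; rfl
  · intro x
    obtain ⟨u, w, rfl⟩ := exists_proj h U hU x
    exact ⟨(u, w), rfl⟩
  · intro ξ
    refine ⟨(σ ξ.1, τ ξ.2), rfl, ?_⟩
    rw [e2, e1, hσ4, hτ4]
  · intro ξ η
    rw [e1, e1, e2, e2]
    simp only [map_add, LinearMap.add_apply, horth, horth', add_zero, zero_add]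
    have h3 := hσ2 ξ.1 η.1
    have h4 := hτ2 ξ.2 η.2
    rw [rB_apply, rB_apply] at h3 h4
    rw [h3, h4]
  · intro ξ
    rw [e1, e2, h.qadd, h.qadd, horth', horth']
    have h3 := hσ3 ξ.1
    have h4 := hτ3 ξ.2
    simp only [rQ] at h3 h4
    rw [h3, h4]

/-- induction step -/
theorem good_of_piece [FiniteDimensional F V] (h : Fm st g ε κ B Q) (hnd : Nd B)
    (IH : ∀ U : Submodule R V, finrank F U < finrank F V → Nd (rB B U) → Good st (rB B U) (rQ Q U))
    (hU : ∃ U : Submodule R V, U ≠ ⊥ ∧ Nd (rB B U) ∧ (U ≠ ⊤ ∨ Good st (rB B U) (rQ Q U))) : Good st B Q := by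
  obtain ⟨U, hU0, hUn, hUg⟩ := hU
  have hlt : ∀ W : Submodule R V, W ≠ ⊤ → finrank F W < finrank F V := by
    intro W hW
    have h1 : finrank F W = finrank F (W.restrictScalars F) := rfl
    rw [h1]
    apply Submodule.finrank_lt
    intro h2
    apply hW
    rw [eq_top_iff]
    intro x _
    have : x ∈ W.restrictScalars F := by rw [h2]; trivial
    exact this
  have h1 : Good st (rB B U) (rQ Q U) := by
    rcases hUg with h1 | h1
    · exact IH U (hlt U h1) hUn
    · exact h1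
  refine good_of_split h hnd U hUn h1 (IH _ (hlt _ ?_) (nd_perp h hnd U hUn))
  intro htop
  apply hU0
  rw [eq_bot_iff]
  intro x hx
  rw [Submodule.mem_bot]
  have h2 : (⟨x, hx⟩ : U) = 0 := by
    apply hUn
    intro y
    have h3 : x ∈ perp h U := by rw [htop]; trivial
    exact h3 y y.2
  exact congrArg Subtype.val h2

end Cfsg.Agent.H976.Inv
end

-- part: H976/Inv/Pieces
section
/-!
# The pieces: cyclic, unipotent pair, swapped pair
-/

set_option autoImplicit false

namespace Cfsg.Agent.H976.Inv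

open Module

variable {F : Type*} [Field F] {R : Type*} [CommRing R] [Algebra F R]
variable {V : Type*} [AddCommGroup V] [Module F V] [Module R V] [IsScalarTower F R V]
  {st : R →ₐ[F] R} {g : R} {ε κ : F} {B : V →ₗ[F] V →ₗ[F] F} {Q : V → F}

theorem good_range {X : Type*} [AddCommGroup X] [Module F X] [Module R X] [IsScalarTower F R X]
    (φ : X →ₗ[R] V) (φ' : X →ₗ[F] V) (hφ' : ∀ (a : R) (ξ : X), φ' (a • ξ) = st a • φ' ξ)
    (hi : ∀ ξ, ∃ η, φ η = φ' ξ ∧ φ' η = φ ξ)
    (hB : ∀ ξ η, B (φ' ξ) (φ' η) = B (φ η) (φ ξ)) (hQ : ∀ ξ, Q (φ' ξ) = Q (φ ξ))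
    (hnd : Nd (rB B (LinearMap.range φ))) :
    Good st (rB B (LinearMap.range φ)) (rQ Q (LinearMap.range φ)) := by
  let ρ : X →ₗ[F] LinearMap.range φ := φ.rangeRestrict.restrictScalars F
  let ρ' : X →ₗ[F] LinearMap.range φ :=
    { toFun := fun ξ => ⟨φ' ξ, (hi ξ).imp fun _ h => h.1⟩
      map_add' := fun ξ η => Subtype.ext (map_add φ' ξ η)
      map_smul' := fun c ξ => Subtype.ext (map_smul φ' c ξ) }
  refine good_of_cover ρ ρ' ?_ ?_ ?_ ?_ ?_ ?_ hnd
  · intro a ξ
    exact Subtype.ext (map_smul φ a ξ)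
  · intro a ξ
    exact Subtype.ext (hφ' a ξ)
  · exact φ.surjective_rangeRestrict
  · intro ξ
    obtain ⟨η, h1, h2⟩ := hi ξ
    exact ⟨η, Subtype.ext h1, Subtype.ext h2⟩
  · intro ξ η
    exact hB ξ η
  · intro ξ
    exact hQ ξ

/-- `a ↦ a • x` -/
abbrev cyc (x : V) : R →ₗ[R] V := LinearMap.toSpanSingleton R V x

/-- `(a, b) ↦ a • v + b • w` -/
abbrev pr (v w : V) : (R × R) →ₗ[R] V :=
  (LinearMap.toSpanSingleton R V v).coprod (LinearMap.toSpanSingleton R V w)

theorem cyc_apply (x : V) (a : R) : cyc x a = a • x := rfl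

theorem pr_apply (v w : V) (a : R × R) : pr v w a = a.1 • v + a.2 • w := rfl

theorem good_cyclic (h : Fm st g ε κ B Q) (x : V) (hnd : Nd (rB B (LinearMap.range (cyc (R := R) x)))) :
    Good st (rB B (LinearMap.range (cyc (R := R) x))) (rQ Q (LinearMap.range (cyc (R := R) x))) := by
  refine good_range (st := st) (B := B) (Q := Q) (cyc (R := R) x) (((cyc (R := R) x).restrictScalars F) ∘ₗ st.toLinearMap) ?_ ?_ ?_ ?_ hnd
  · intro a ξ
    show st (a * ξ) • x = st a • st ξ • x
    rw [map_mul, mul_smul]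
  · intro ξ
    refine ⟨st ξ, rfl, ?_⟩
    show st (st ξ) • x = ξ • x
    rw [h.stst]
  · intro ξ η
    show B (st ξ • x) (st η • x) = B (η • x) (ξ • x)
    rw [h.adj, h.stst, h.adj, smul_smul, smul_smul, mul_comm]
  · intro ξ
    exact (h.qst ξ x).symm

theorem nd_cyclic (h : Fm st g ε κ B Q) {π : R} (hπ : Dich π) {k : ℕ} (hk : ∀ x : V, π ^ (k + 1) • x = 0) {x : V}
    {b : R} (hx : B (π ^ k • x) (b • x) ≠ 0) : Nd (rB B (LinearMap.range (cyc (R := R) x))) := by
  rintro ⟨_, a, rfl⟩ hy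
  apply Subtype.ext
  show a • x = 0
  rcases hπ.val k a with ⟨c, rfl⟩ | ⟨c, e, h1⟩
  · rw [mul_smul, hk]
  · exfalso
    apply hx
    have h2 : B (a • x) (st c • b • x) = 0 := hy ⟨st c • b • x, (st c * b), by rw [cyc_apply, mul_smul]⟩
    rw [← h.adj, smul_smul, h1, add_smul, mul_comm, mul_smul, hk, smul_zero, add_zero] at h2
    exact h2

/-- if no vector generates a non-degenerate submodule then the involution is trivial on the residue field -/
theorem alt_of_not (h : Fm st g ε κ B Q) (hnd : Nd B) {π : R} {k : ℕ}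
    (hx : ∀ (x : V) (b : R), B (π ^ k • x) (b • x) = 0) (c : R) (x : V) : (st c - c) • π ^ k • x = 0 := by
  have hpol : ∀ (x y : V) (b : R), B (π ^ k • x) (b • y) + B (π ^ k • y) (b • x) = 0 := by
    intro x y b
    have h1 := hx (x + y) b
    rw [smul_add, smul_add, map_add, map_add, LinearMap.add_apply, LinearMap.add_apply, hx, hx] at h1
    linear_combination h1
  apply hnd
  intro y
  rw [h.adj, map_sub, h.stst, sub_smul, map_sub]
  have h1 := hpol x (c • y) 1
  rw [one_smul, one_smul, smul_comm (π ^ k) c y, h.adj c] at h1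
  have h2 := hpol y x (st c)
  linear_combination h1 - h2

end Cfsg.Agent.H976.Inv
end

-- part: H976/Inv/Unip
section
/-!
# The unipotent piece
-/

set_option autoImplicit false

namespace Cfsg.Agent.H976.Inv

open Module Polynomial

variable {F : Type*} [Field F] {R : Type*} [CommRing R] [Algebra F R]
variable {V : Type*} [AddCommGroup V] [Module F V] [Module R V] [IsScalarTower F R V]
  {st : R →ₐ[F] R} {g : R} {ε κ : F} {B : V →ₗ[F] V →ₗ[F] F} {Q : V → F}

theorem bs₁ (c : F) (x y : V) : B (c • x) y = c * B x y := by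
  rw [map_smul, LinearMap.smul_apply, smul_eq_mul]

theorem bs₂ (c : F) (x y : V) : B x (c • y) = c * B x y := by
  rw [map_smul, smul_eq_mul]

/-- moving a scalar to the left -/
theorem Fm.adj' (h : Fm st g ε κ B Q) (a : R) (x y : V) : B x (a • y) = B (st a • x) y := by
  rw [h.adj, h.stst]

theorem exists_dualvec (h : Fm st g ε κ B Q) (hnd : Nd B) {s : R} {k : ℕ} (hk : ∀ x : V, s ^ (k + 1) • x = 0) {v : V}
    (hv : s ^ k • v ≠ 0) (j : ℕ) (hj : j ≤ k) :
    ∃ w, B (s ^ k • v) w = 1 ∧ ∀ i, k - j ≤ i → i < k → B (s ^ i • v) w = 0 := by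
  induction j with
  | zero =>
    by_contra hcon
    apply hv
    apply hnd
    intro y
    by_contra hy
    apply hcon
    refine ⟨(B (s ^ k • v) y)⁻¹ • y, ?_, fun i h1 h2 => by omega⟩
    rw [bs₂, inv_mul_cancel₀ hy]
  | succ j ih =>
    obtain ⟨w, hw1, hw2⟩ := ih (by omega)
    have hmv : ∀ i, B (s ^ i • v) ((st s ^ (j + 1)) • w) = B (s ^ (j + 1 + i) • v) w := by
      intro i
      rw [← map_pow, ← h.adj, smul_smul, ← pow_add]
    have hbig : ∀ i, k + 1 ≤ i → s ^ i • v = 0 := by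
      intro i hi
      obtain ⟨m, rfl⟩ := Nat.exists_eq_add_of_le hi
      rw [pow_add, mul_smul, hk]
    refine ⟨w - B (s ^ (k - (j + 1)) • v) w • (st s ^ (j + 1)) • w, ?_, ?_⟩
    · rw [map_sub, bs₂, hmv, hw1, hbig (j + 1 + k) (by omega), map_zero, LinearMap.zero_apply, mul_zero, sub_zero]
    · intro i h1 h2
      rw [map_sub, bs₂, hmv]
      rcases Nat.lt_or_ge (k - (j + 1)) i with h3 | h3
      · rw [hw2 i (by omega) h2, hbig (j + 1 + i) (by omega), map_zero, LinearMap.zero_apply, mul_zero, sub_zero]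
      · have h4 : i = k - (j + 1) := by omega
        have h5 : j + 1 + i = k := by omega
        rw [h5, hw1, mul_one, h4, sub_self]

theorem low {s : R} {k : ℕ} {v w : V} (hw : ∀ i, i < k → B (s ^ i • v) w = 0) (n : ℕ) :
    ∀ i, i + n < k → B ((s ^ i * (1 + s) ^ n) • v) w = 0 := by
  induction n with
  | zero =>
    intro i hi
    rw [pow_zero, mul_one]
    exact hw i (by omega)
  | succ n ih =>
    intro i hi
    have h1 : s ^ i * (1 + s) ^ (n + 1) = s ^ i * (1 + s) ^ n + s ^ (i + 1) * (1 + s) ^ n := by ring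
    rw [h1, add_smul, map_add, LinearMap.add_apply, ih i (by omega), ih (i + 1) (by omega), add_zero]

/-- the symmetry of the residue functional -/
theorem lam (h : Fm st g ε κ B Q) {k : ℕ} (hk : ∀ x : V, (g - 1) ^ (k + 1) • x = 0) {v w : V}
    (hw : ∀ i, i < k → B ((g - 1) ^ i • v) w = 0) (c : R) :
    B ((st c * (g ^ (k + 1) * st g ^ 2)) • v) w = (-1) ^ k * B (c • v) w := by
  have hinv := h.inv
  have hs : st (g - 1) = -(st g * (g - 1)) := by
    rw [map_sub, map_one]; linear_combination hinv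
  have hbig : ∀ (x : V) i, k + 1 ≤ i → (g - 1) ^ i • x = 0 := by
    intro x i hi
    obtain ⟨m, rfl⟩ := Nat.exists_eq_add_of_le hi
    rw [pow_add, mul_smul, hk]
  have hpw : ∀ m, st g ^ m * g ^ m = 1 := fun m => by rw [← mul_pow, hinv, one_pow]
  have hmon : ∀ i, B ((st ((g - 1) ^ i) * (g ^ (k + 1) * st g ^ 2)) • v) w
      = (-1) ^ k * B ((g - 1) ^ i • v) w := by
    intro i
    have h1 : st ((g - 1) ^ i) * (g ^ (k + 1) * st g ^ 2)
        = (algebraMap F R ((-1) ^ i)) * (st g ^ (i + 2) * g ^ (k + 1) * (g - 1) ^ i) := by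
      rw [map_pow, hs, neg_pow, mul_pow, map_pow, map_neg, map_one]
      ring
    rw [h1, mul_smul, algebraMap_smul, bs₁]
    rcases lt_trichotomy i k with h2 | h2 | h2
    · have h3 : st g ^ (i + 2) * g ^ (k + 1) = (1 + (g - 1)) ^ (k - 1 - i) := by
        have h4 : k + 1 = (i + 2) + (k - 1 - i) := by omega
        rw [h4, pow_add g, ← mul_assoc, hpw, one_mul]
        congr 1
        ring
      rw [h3, mul_comm ((1 + (g - 1)) ^ (k - 1 - i)), low hw _ i (by omega), hw i h2, mul_zero, mul_zero]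
    · subst h2
      have h3 : st g ^ (i + 2) * g ^ (i + 1) * (g - 1) ^ i = (g - 1) ^ i - st g * (g - 1) ^ (i + 1) := by
        have h4 : st g ^ (i + 2) * g ^ (i + 1) = st g := by
          rw [pow_succ, mul_assoc, mul_comm (st g), ← mul_assoc, hpw, one_mul]
        rw [h4]
        linear_combination (g - 1) ^ i * hinv
      rw [h3, sub_smul, mul_smul (st g), hk, smul_zero, sub_zero]
    · have h3 : (st g ^ (i + 2) * g ^ (k + 1) * (g - 1) ^ i) • v = 0 := by
        rw [mul_smul, hbig v i (by omega), smul_zero]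
      rw [h3, hbig v i (by omega), map_zero, LinearMap.zero_apply, mul_zero, mul_zero]
  obtain ⟨P, rfl⟩ := exists_aeval (gen_sub_one h.gen) c
  induction P using Polynomial.induction_on' with
  | add p q hp hq =>
    rw [map_add, map_add, add_mul, add_smul, add_smul, map_add, map_add, LinearMap.add_apply, LinearMap.add_apply,
      hp, hq, mul_add]
  | monomial n a =>
    have h1 : aeval (g - 1) (monomial n a) = algebraMap F R a * (g - 1) ^ n := by
      rw [aeval_monomial]
    rw [h1, map_mul, AlgHom.commutes, mul_assoc, mul_smul, algebraMap_smul, bs₁, hmon,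
      mul_smul, algebraMap_smul, bs₁]
    ring

theorem unip_pair (h : Fm st g ε κ B Q) {k : ℕ} (hk : ∀ x : V, (g - 1) ^ (k + 1) • x = 0)
    (hx : ∀ (x : V) (b : R), B ((g - 1) ^ k • x) (b • x) = 0) {v w : V}
    (hw1 : B ((g - 1) ^ k • v) w = 1) (hw : ∀ i, i < k → B ((g - 1) ^ i • v) w = 0) :
    Nd (rB B (LinearMap.range (pr (R := R) v w))) ∧
      Good st (rB B (LinearMap.range (pr (R := R) v w))) (rQ Q (LinearMap.range (pr (R := R) v w))) := by
  have hinv := h.inv
  have hε := h.hε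
  have hs : st (g - 1) = -(st g * (g - 1)) := by
    rw [map_sub, map_one]; linear_combination hinv
  have hpw : ∀ m, st g ^ m * g ^ m = 1 := fun m => by rw [← mul_pow, hinv, one_pow]
  have hnd : Nd (rB B (LinearMap.range (pr (R := R) v w))) := by
    rintro ⟨_, ⟨a, b⟩, rfl⟩ hy
    apply Subtype.ext
    show a • v + b • w = 0
    have hy' : ∀ c d : R, B (a • v + b • w) (c • v + d • w) = 0 := fun c d => hy ⟨c • v + d • w, (c, d), rfl⟩
    rcases (dich_sub_one h.gen).val₂ k a b with ⟨⟨a₁, rfl⟩, ⟨b₁, rfl⟩⟩ | ⟨c, e, f, h1, h2⟩ | ⟨c, e, f, h1, h2⟩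
    · rw [mul_smul, mul_smul, hk, hk, add_zero]
    · exfalso
      have h3 := hy' 0 (st c)
      rw [zero_smul, zero_add, ← h.adj, smul_add, smul_smul, smul_smul, h1, h2, add_smul, mul_smul, hk, add_zero,
        mul_smul, map_add, LinearMap.add_apply, hw1] at h3
      have h4 : B ((g - 1) ^ k • f • w) w = 0 := by
        have h5 := hx w (st f)
        rwa [← h.adj, smul_comm] at h5
      rw [h4, add_zero] at h3
      exact one_ne_zero h3
    · exfalso
      have h3 := hy' (st c) 0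
      rw [zero_smul, add_zero, ← h.adj, smul_add, smul_smul, smul_smul, h1, h2, add_smul, mul_smul, mul_smul, hk,
        add_zero, map_add, LinearMap.add_apply] at h3
      have h4 : B ((g - 1) ^ k • f • v) v = 0 := by
        have h5 := hx v (st f)
        rwa [← h.adj, smul_comm] at h5
      have h5 : B ((g - 1) ^ k • w) v = ε * (-1) ^ k := by
        rw [h.symm, h.adj', map_pow, hs, neg_pow, mul_pow]
        have h6 : (-1 : R) ^ k * (st g ^ k * (g - 1) ^ k) = algebraMap F R ((-1) ^ k) * (st g ^ k * (g - 1) ^ k) := by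
          rw [map_pow, map_neg, map_one]
        have h7 : ∀ m, (st g ^ m * (g - 1) ^ k) • v = (g - 1) ^ k • v := by
          intro m
          induction m with
          | zero => rw [pow_zero, one_mul]
          | succ m ih =>
            have h8 : st g ^ (m + 1) * (g - 1) ^ k = st g ^ m * (g - 1) ^ k - st g ^ (m + 1) * (g - 1) ^ (k + 1) := by
              linear_combination st g ^ m * (g - 1) ^ k * hinv
            rw [h8, sub_smul, ih, mul_smul, hk, smul_zero, sub_zero]
        rw [h6, mul_smul, algebraMap_smul, h7, bs₁, hw1, mul_one]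
      rw [h4, zero_add, h5] at h3
      have h9 : (ε * (-1) ^ k) * (ε * (-1) ^ k) = 1 := by
        have : ((-1 : F) ^ k) * (-1) ^ k = 1 := by rw [← mul_pow]; norm_num
        linear_combination ((-1 : F) ^ k * (-1) ^ k) * hε + this
      rw [h3, mul_zero] at h9
      exact zero_ne_one h9
  refine ⟨hnd, ?_⟩
  obtain ⟨δ, hδ⟩ : ∃ δ : F, δ = ε * (-1) ^ k := ⟨_, rfl⟩
  have hδ1 : δ * δ = 1 := by
    have : ((-1 : F) ^ k) * (-1) ^ k = 1 := by rw [← mul_pow]; norm_num
    rw [hδ]
    linear_combination ((-1 : F) ^ k * (-1) ^ k) * hε + this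
  obtain ⟨x₀, hx₀⟩ : ∃ x₀ : R, x₀ = algebraMap F R δ * (st g ^ (k + 1) * g ^ 2) := ⟨_, rfl⟩
  have hsx₀ : st x₀ = algebraMap F R δ * (g ^ (k + 1) * st g ^ 2) := by
    rw [hx₀, map_mul, AlgHom.commutes, map_mul, map_pow, map_pow, h.stst]
  have hx₀' : x₀ * st x₀ = 1 := by
    rw [hsx₀, hx₀]
    have h1 : algebraMap F R δ * algebraMap F R δ = 1 := by rw [← map_mul, hδ1, map_one]
    calc algebraMap F R δ * (st g ^ (k + 1) * g ^ 2) * (algebraMap F R δ * (g ^ (k + 1) * st g ^ 2))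
        = (algebraMap F R δ * algebraMap F R δ) * (st g ^ (k + 1) * g ^ (k + 1)) * (st g ^ 2 * g ^ 2) := by ring
      _ = 1 := by rw [h1, hpw, hpw, one_mul, one_mul]
  have hQg : ∀ (m : ℕ) (y : V), Q (g ^ m • y) = Q y := by
    intro m y
    induction m with
    | zero => rw [pow_zero, one_smul]
    | succ m ih => rw [pow_succ', mul_smul, h.qg, ih]
  have hQs : ∀ (m : ℕ) (y : V), Q (st g ^ m • y) = Q y := by
    intro m y
    rw [← hQg m (st g ^ m • y), smul_smul, mul_comm, hpw, one_smul]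
  have hQx : ∀ y : V, Q (x₀ • y) = Q y := by
    intro y
    rw [hx₀, mul_smul, algebraMap_smul, mul_smul]
    rcases mul_self_eq_one_iff.1 hδ1 with h1 | h1
    · rw [h1, one_smul, hQs, hQg]
    · rw [h1, neg_smul, one_smul, h.qneg, hQs, hQg]
  have hM : ∀ a d : R, B (st a • v) ((st d * x₀) • w) = B (d • w) (a • v) := by
    intro a d
    rw [h.adj', map_mul, h.stst, hsx₀, smul_smul]
    have h1 : d * (algebraMap F R δ * (g ^ (k + 1) * st g ^ 2)) * st a
        = algebraMap F R δ * (st (a * st d) * (g ^ (k + 1) * st g ^ 2)) := by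
      rw [map_mul, h.stst]; ring
    rw [h1, mul_smul, algebraMap_smul, bs₁, lam h hk hw, h.symm (d • w),
      h.adj', smul_smul, mul_comm (st d) a]
    have h2 : δ * (-1) ^ k = ε := by
      have : ((-1 : F) ^ k) * (-1) ^ k = 1 := by rw [← mul_pow]; norm_num
      rw [hδ]
      linear_combination ε * this
    rw [← mul_assoc, h2]
  let φ' : (R × R) →ₗ[F] V :=
    { toFun := fun a => st a.1 • v + (st a.2 * x₀) • w
      map_add' := by
        intro a b
        rw [Prod.fst_add, Prod.snd_add, map_add, map_add]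
        simp only [add_smul, add_mul]
        abel
      map_smul' := by
        intro c a
        rw [Prod.smul_fst, Prod.smul_snd, map_smul, map_smul, RingHom.id_apply, smul_add, smul_mul_assoc,
          smul_assoc, smul_assoc] }
  refine good_range (st := st) (B := B) (Q := Q) (pr (R := R) v w) φ' ?_ ?_ ?_ ?_ hnd
  · intro a ξ
    show st (a * ξ.1) • v + (st (a * ξ.2) * x₀) • w = st a • (st ξ.1 • v + (st ξ.2 * x₀) • w)
    rw [map_mul, map_mul, smul_add, smul_smul, smul_smul, mul_assoc]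
  · intro ξ
    refine ⟨(st ξ.1, st ξ.2 * x₀), rfl, ?_⟩
    show st (st ξ.1) • v + (st (st ξ.2 * x₀) * x₀) • w = ξ.1 • v + ξ.2 • w
    rw [h.stst, map_mul, h.stst, mul_assoc, mul_comm (st x₀), hx₀', mul_one]
  · intro ξ η
    show B (st ξ.1 • v + (st ξ.2 * x₀) • w) (st η.1 • v + (st η.2 * x₀) • w)
      = B (η.1 • v + η.2 • w) (ξ.1 • v + ξ.2 • w)
    simp only [map_add, LinearMap.add_apply]
    have t1 : B (st ξ.1 • v) (st η.1 • v) = B (η.1 • v) (ξ.1 • v) := by
      rw [h.adj, h.stst, h.adj, smul_smul, smul_smul, mul_comm]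
    have t4 : B ((st ξ.2 * x₀) • w) ((st η.2 * x₀) • w) = B (η.2 • w) (ξ.2 • w) := by
      rw [h.adj, h.adj, smul_smul, smul_smul, map_mul, h.stst]
      congr 2
      linear_combination (ξ.2 * st η.2) * hx₀'
    have t3 : B ((st ξ.2 * x₀) • w) (st η.1 • v) = B (η.1 • v) (ξ.2 • w) := by
      rw [h.symm, hM, ← h.symm]
    rw [t1, hM, t3, t4]
    ring
  · intro ξ
    show Q (st ξ.1 • v + (st ξ.2 * x₀) • w) = Q (ξ.1 • v + ξ.2 • w)
    rw [h.qadd, h.qadd, hM, ← h.qst, h.symm (ξ.1 • v), ← mul_assoc, h.hκ]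
    have h1 : Q ((st ξ.2 * x₀) • w) = Q (ξ.2 • w) := by
      rw [mul_comm, mul_smul, hQx, ← h.qst]
    rw [h1]

end Cfsg.Agent.H976.Inv
end

-- part: H976/Inv/Swap
section
/-!
# The swapped piece and the main theorem
-/

set_option autoImplicit false

namespace Cfsg.Agent.H976.Inv

open Module Polynomial

variable {F : Type*} [Field F] {R : Type*} [CommRing R] [Algebra F R]
variable {V : Type*} [AddCommGroup V] [Module F V] [Module R V] [IsScalarTower F R V]
  {st : R →ₐ[F] R} {g : R} {ε κ : F} {B : V →ₗ[F] V →ₗ[F] F} {Q : V → F}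

/-- the quadratic form vanishes on isotropic submodules on which `g - 1` is invertible -/
theorem q_zero [FiniteDimensional F V] (h : Fm st g ε κ B Q) (hg1 : ∀ x : V, (g - 1) • x = 0 → x = 0)
    (W : Submodule R V) (hW : ∀ x ∈ W, ∀ y ∈ W, B x y = 0) (x : V) (hx : x ∈ W) : Q x = 0 := by
  have := finite_sub (F := F) W
  let L : W →ₗ[F] W := (Algebra.lsmul F F W (g - 1))
  have hL : ∀ y : W, L y = (g - 1) • y := fun y => rfl
  have hinj : Function.Injective L := by
    rw [injective_iff_map_eq_zero]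
    intro y hy
    apply Subtype.ext
    apply hg1
    rw [hL] at hy
    exact congrArg Subtype.val hy
  obtain ⟨y, hy⟩ := LinearMap.surjective_of_injective hinj ⟨x, hx⟩
  have h1 : (g - 1) • (y : V) = x := congrArg Subtype.val hy
  have h2 : x = g • (y : V) + (-(y : V)) := by rw [← h1, sub_smul, one_smul, sub_eq_add_neg]
  have h3 : Q x = Q (y : V) + Q (y : V) := by
    rw [h2, h.qadd, h.qg, h.qneg, hW _ (W.smul_mem _ y.2) _ (W.neg_mem y.2), mul_zero, add_zero]
  have h4 : Q (y : V) + Q (y : V) = 0 := by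
    have h5 := h.qadd (y : V) (-(y : V))
    rw [add_neg_cancel, h.q0, h.qneg, hW _ y.2 _ (W.neg_mem y.2), mul_zero, add_zero] at h5
    exact h5.symm
  rw [h3, h4]

theorem swap_piece [FiniteDimensional F V] (h : Fm st g ε κ B Q) (hnd : Nd B) {π : R} (hπ : Dich π)
    (hc : IsCoprime π (st π)) {n : ℕ} (hn : ∀ x : V, (π * st π) ^ n • x = 0) (hnt : ∃ x : V, x ≠ 0)
    (hg1 : ∀ x : V, (g - 1) • x = 0 → x = 0) :
    ∃ U : Submodule R V, U ≠ ⊥ ∧ Nd (rB B U) ∧ Good st (rB B U) (rQ Q U) := by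
  obtain ⟨u, u', hu⟩ := hc.pow (m := n) (n := n)
  have hn' : ∀ x : V, π ^ n • st π ^ n • x = 0 := fun x => by rw [smul_smul, ← mul_pow, hn]
  have hex : ∃ x : V, st π ^ n • x ≠ 0 := by
    by_contra hcon
    push Not at hcon
    obtain ⟨x, hx⟩ := hnt
    apply hx
    have h1 : π ^ n • x = 0 := by
      apply hnd
      intro y
      rw [h.adj, map_pow, hcon, map_zero]
    calc x = (u * π ^ n + u' * st π ^ n) • x := by rw [hu, one_smul]
      _ = 0 := by rw [add_smul, mul_smul, mul_smul, h1, hcon, smul_zero, smul_zero, add_zero]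
  have hexm : ∃ m : ℕ, ∀ x : V, π ^ m • st π ^ n • x = 0 := ⟨n, hn'⟩
  classical
  obtain ⟨k, hk1, hk2⟩ : ∃ k, (∀ x : V, π ^ (k + 1) • st π ^ n • x = 0) ∧ ∃ x : V, π ^ k • st π ^ n • x ≠ 0 := by
    have h1 := Nat.find_spec hexm
    have h0 : Nat.find hexm ≠ 0 := by
      intro h2
      rw [h2] at h1
      obtain ⟨x, hx⟩ := hex
      apply hx
      have := h1 x
      rwa [pow_zero, one_smul] at this
    obtain ⟨k, hk⟩ := Nat.exists_eq_succ_of_ne_zero h0
    refine ⟨k, ?_, ?_⟩
    · rw [hk] at h1; exact h1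
    · by_contra hcon
      push Not at hcon
      have := Nat.find_min hexm (m := k) (by omega)
      exact this hcon
  have hkn : k + 1 ≤ n := by
    by_contra hcon
    obtain ⟨x, hx⟩ := hk2
    apply hx
    obtain ⟨m, hm⟩ := Nat.exists_eq_add_of_le (show n ≤ k by omega)
    rw [hm, add_comm, pow_add, mul_smul, hn', smul_zero]
  obtain ⟨v₀, hv₀⟩ := hk2
  obtain ⟨w₀, hw₀⟩ : ∃ w₀, B (π ^ k • st π ^ n • v₀) w₀ ≠ 0 := by
    by_contra hcon
    push Not at hcon
    exact hv₀ (hnd _ hcon)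
  obtain ⟨v, hv⟩ : ∃ v, v = st π ^ n • v₀ := ⟨_, rfl⟩
  rw [← hv] at hw₀ hv₀
  have hkv : π ^ (k + 1) • v = 0 := by rw [hv]; exact hk1 v₀
  have hnv : π ^ n • v = 0 := by rw [hv]; exact hn' v₀
  obtain ⟨w, hw⟩ : ∃ w, w = π ^ n • u • w₀ := ⟨_, rfl⟩
  have hBw : B (π ^ k • v) w ≠ 0 := by
    have h1 : w₀ = w + (u' * st π ^ n) • w₀ := by
      rw [hw, smul_smul, mul_comm, ← add_smul, hu, one_smul]
    have h2 : B (π ^ k • v) ((u' * st π ^ n) • w₀) = 0 := by
      rw [h.adj', map_mul, map_pow, h.stst, smul_smul]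
      have h3 : st u' * π ^ n * π ^ k = (st u' * π ^ k) * π ^ n := by ring
      rw [h3, mul_smul, hnv, smul_zero, map_zero, LinearMap.zero_apply]
    rw [h1, map_add, h2, add_zero] at hw₀
    exact hw₀
  have hkw : st π ^ (k + 1) • w = 0 := by
    apply hnd
    intro y
    rw [h.adj, map_pow, h.stst, hw, h.adj, map_pow, smul_comm, hk1, map_zero]
  have hnw : st π ^ n • w = 0 := by
    obtain ⟨m, hm⟩ := Nat.exists_eq_add_of_le hkn
    rw [hm, add_comm, pow_add, mul_smul, hkw, smul_zero]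
  have hvv : ∀ a b : R, B (a • v) (b • v) = 0 := by
    intro a b
    have h1 : b • v = st π ^ n • b • v₀ := by rw [hv, smul_comm]
    rw [h1, h.adj', map_pow, h.stst, smul_comm, hnv, smul_zero, map_zero, LinearMap.zero_apply]
  have hww : ∀ a b : R, B (a • w) (b • w) = 0 := by
    intro a b
    have h1 : b • w = π ^ n • b • u • w₀ := by rw [hw, smul_comm]
    rw [h1, h.adj', map_pow, smul_comm, hnw, smul_zero, map_zero, LinearMap.zero_apply]
  have hQv : ∀ a : R, Q (a • v) = 0 := by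
    intro a
    refine q_zero h hg1 (LinearMap.range (cyc (R := R) v)) ?_ _ ⟨a, rfl⟩
    rintro _ ⟨b, rfl⟩ _ ⟨c, rfl⟩
    exact hvv b c
  have hQw : ∀ a : R, Q (a • w) = 0 := by
    intro a
    refine q_zero h hg1 (LinearMap.range (cyc (R := R) w)) ?_ _ ⟨a, rfl⟩
    rintro _ ⟨b, rfl⟩ _ ⟨c, rfl⟩
    exact hww b c
  have hndU : Nd (rB B (LinearMap.range (pr (R := R) v w))) := by
    rintro ⟨_, ⟨a, b⟩, rfl⟩ hy
    apply Subtype.ext
    show a • v + b • w = 0
    have hy' : ∀ c d : R, B (a • v + b • w) (c • v + d • w) = 0 := fun c d => hy ⟨c • v + d • w, (c, d), rfl⟩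
    have ha : a • v = 0 := by
      rcases hπ.val k a with ⟨a₁, rfl⟩ | ⟨c, e, h1⟩
      · rw [mul_comm, mul_smul, hkv, smul_zero]
      · exfalso
        have h3 := hy' 0 (st c)
        rw [zero_smul, zero_add, map_add, LinearMap.add_apply, hww, add_zero, ← h.adj, smul_smul, h1, mul_comm _ e,
          add_smul, mul_smul e, hkv, smul_zero, add_zero] at h3
        exact hBw h3
    have hb : b • w = 0 := by
      rcases hπ.val k (st b) with ⟨b₁, hb₁⟩ | ⟨c, e, h1⟩
      · have h2 : b = st b₁ * st π ^ (k + 1) := by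
          rw [← h.stst b, hb₁, map_mul, map_pow, mul_comm]
        rw [h2, mul_smul, hkw, smul_zero]
      · exfalso
        have h3 := hy' c 0
        rw [zero_smul, add_zero, map_add, LinearMap.add_apply, hvv, zero_add, h.symm, h.adj', smul_smul, mul_comm (st b) c, h1,
          mul_comm _ e, add_smul, mul_smul e, hkv, smul_zero, add_zero] at h3
        rcases mul_eq_zero.1 h3 with h4 | h4
        · have := h.hε
          rw [h4, mul_zero] at this
          exact zero_ne_one this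
        · exact hBw h4
    rw [ha, hb, add_zero]
  refine ⟨LinearMap.range (pr (R := R) v w), ?_, hndU, ?_⟩
  · intro hbot
    have h1 : v ∈ LinearMap.range (pr (R := R) v w) := ⟨(1, 0), by rw [pr_apply, one_smul, zero_smul, add_zero]⟩
    rw [hbot, Submodule.mem_bot] at h1
    rw [h1, smul_zero] at hv₀
    exact hv₀ rfl
  let φ' : (R × R) →ₗ[F] V :=
    { toFun := fun a => st a.1 • w + st a.2 • v
      map_add' := by
        intro a b
        rw [Prod.fst_add, Prod.snd_add, map_add, map_add]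
        simp only [add_smul]
        abel
      map_smul' := by
        intro c a
        rw [Prod.smul_fst, Prod.smul_snd, map_smul, map_smul, RingHom.id_apply, smul_add, smul_assoc, smul_assoc] }
  refine good_range (st := st) (B := B) (Q := Q) (pr (R := R) v w) φ' ?_ ?_ ?_ ?_ hndU
  · intro a ξ
    show st (a * ξ.1) • w + st (a * ξ.2) • v = st a • (st ξ.1 • w + st ξ.2 • v)
    rw [map_mul, map_mul, smul_add, smul_smul, smul_smul]
  · intro ξ
    refine ⟨(st ξ.2, st ξ.1), ?_, ?_⟩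
    · show st ξ.2 • v + st ξ.1 • w = st ξ.1 • w + st ξ.2 • v
      rw [add_comm]
    · show st (st ξ.2) • w + st (st ξ.1) • v = ξ.1 • v + ξ.2 • w
      rw [h.stst, h.stst, add_comm]
  · intro ξ η
    show B (st ξ.1 • w + st ξ.2 • v) (st η.1 • w + st η.2 • v)
      = B (η.1 • v + η.2 • w) (ξ.1 • v + ξ.2 • w)
    simp only [map_add, LinearMap.add_apply, hvv, hww]
    have t1 : B (st ξ.1 • w) (st η.2 • v) = B (η.2 • w) (ξ.1 • v) := by
      rw [h.adj, h.stst, h.adj, smul_smul, smul_smul, mul_comm]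
    have t2 : B (st ξ.2 • v) (st η.1 • w) = B (η.1 • v) (ξ.2 • w) := by
      rw [h.adj, h.stst, h.adj, smul_smul, smul_smul, mul_comm]
    rw [t1, t2]
    ring
  · intro ξ
    show Q (st ξ.1 • w + st ξ.2 • v) = Q (ξ.1 • v + ξ.2 • w)
    have t1 : B (st ξ.1 • w) (st ξ.2 • v) = B (ξ.2 • w) (ξ.1 • v) := by
      rw [h.adj, h.stst, h.adj, smul_smul, smul_smul, mul_comm]
    rw [h.qadd, h.qadd, hQv, hQv, hQw, hQw, t1, h.symm (ξ.1 • v), ← mul_assoc, h.hκ]

end Cfsg.Agent.H976.Inv
end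

-- part: H976/Inv/Main
section
/-!
# Every isometry is inverted by an (anti-)isometry
-/

set_option autoImplicit false

namespace Cfsg.Agent.H976.Inv

open Module Polynomial

universe u

section Single

variable {F : Type*} [Field F] {R : Type*} [CommRing R] [Algebra F R]
variable {V : Type*} [AddCommGroup V] [Module F V] [Module R V] [IsScalarTower F R V]
  {st : R →ₐ[F] R} {g : R} {ε κ : F} {B : V →ₗ[F] V →ₗ[F] F} {Q : V → F}

/-- last power of a nilpotent element -/
theorem exists_last {π : R} (hnt : ∃ x : V, x ≠ 0) (hn : ∃ n, ∀ x : V, π ^ n • x = 0) :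
    ∃ k, (∀ x : V, π ^ (k + 1) • x = 0) ∧ ∃ x : V, π ^ k • x ≠ 0 := by
  classical
  have h1 := Nat.find_spec hn
  have h0 : Nat.find hn ≠ 0 := by
    intro h2
    rw [h2] at h1
    obtain ⟨x, hx⟩ := hnt
    apply hx
    have := h1 x
    rwa [pow_zero, one_smul] at this
  obtain ⟨k, hk⟩ := Nat.exists_eq_succ_of_ne_zero h0
  refine ⟨k, ?_, ?_⟩
  · rw [hk] at h1; exact h1
  · by_contra hcon
    push Not at hcon
    have := Nat.find_min hn (m := k) (by omega)
    exact this hcon

theorem cyclic_piece (h : Fm st g ε κ B Q) {π : R} (hπ : Dich π) {k : ℕ} (hk : ∀ x : V, π ^ (k + 1) • x = 0)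
    {x : V} {b : R} (hx : B (π ^ k • x) (b • x) ≠ 0) :
    ∃ U : Submodule R V, U ≠ ⊥ ∧ Nd (rB B U) ∧ Good st (rB B U) (rQ Q U) := by
  refine ⟨LinearMap.range (cyc (R := R) x), ?_, nd_cyclic h hπ hk hx, good_cyclic h x (nd_cyclic h hπ hk hx)⟩
  intro hbot
  have h1 : x ∈ LinearMap.range (cyc (R := R) x) := ⟨1, by rw [cyc_apply, one_smul]⟩
  rw [hbot, Submodule.mem_bot] at h1
  rw [h1, smul_zero, map_zero, LinearMap.zero_apply] at hx
  exact hx rfl

theorem unip_piece (h : Fm st g ε κ B Q) (hnd : Nd B) (hnt : ∃ x : V, x ≠ 0)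
    (hn : ∃ n, ∀ x : V, (g - 1) ^ n • x = 0) :
    ∃ U : Submodule R V, U ≠ ⊥ ∧ Nd (rB B U) ∧ Good st (rB B U) (rQ Q U) := by
  obtain ⟨k, hk, v, hv⟩ := exists_last hnt hn
  by_cases hx : ∃ (x : V) (b : R), B ((g - 1) ^ k • x) (b • x) ≠ 0
  · obtain ⟨x, b, hx⟩ := hx
    exact cyclic_piece h (dich_sub_one h.gen) hk hx
  · push Not at hx
    obtain ⟨w, hw1, hw2⟩ := exists_dualvec h hnd hk hv k le_rfl
    have hw : ∀ i, i < k → B ((g - 1) ^ i • v) w = 0 := fun i hi => hw2 i (by omega) hi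
    obtain ⟨h1, h2⟩ := unip_pair h hk hx hw1 hw
    refine ⟨_, ?_, h1, h2⟩
    intro hbot
    have h3 : v ∈ LinearMap.range (pr (R := R) v w) := ⟨(1, 0), by rw [pr_apply, one_smul, zero_smul, add_zero]⟩
    rw [hbot, Submodule.mem_bot] at h3
    rw [h3, smul_zero] at hv
    exact hv rfl

/-- there is an irreducible polynomial in `g` which is not injective -/
theorem exists_irreducible [FiniteDimensional F V] (hnt : ∃ x : V, x ≠ 0) (g : R) :
    ∃ f : F[X], Irreducible f ∧ ∃ x : V, x ≠ 0 ∧ aeval g f • x = 0 := by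
  have : Nontrivial V := by
    obtain ⟨x, hx⟩ := hnt
    exact ⟨⟨x, 0, hx⟩⟩
  let L : Module.End F V := Algebra.lsmul F F V g
  have hL : ∀ (p : F[X]) (x : V), aeval L p x = aeval g p • x := by
    intro p x
    have : aeval L p = Algebra.lsmul F F V (aeval g p) := by
      rw [← aeval_algHom_apply]
    rw [this]; rfl
  have hint : IsIntegral F L := Algebra.IsIntegral.isIntegral L
  obtain ⟨f, hf, q, hq⟩ := WfDvdMonoid.exists_irreducible_factor (minpoly.not_isUnit F L) (minpoly.ne_zero hint)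
  refine ⟨f, hf, ?_⟩
  by_contra hcon
  push Not at hcon
  have h1 : aeval L q = 0 := by
    apply LinearMap.ext
    intro x
    rw [LinearMap.zero_apply, hL]
    by_contra h2
    have h3 := hcon _ h2
    apply h3
    rw [smul_smul, ← map_mul, ← hq, ← hL, minpoly.aeval, LinearMap.zero_apply]
  obtain ⟨r, hr⟩ := minpoly.dvd F L h1
  have hq0 : q ≠ 0 := by
    rintro rfl
    rw [mul_zero] at hq
    exact minpoly.ne_zero hint hq
  have h2 : q * (f * r) = q * 1 := by
    rw [mul_one]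
    calc q * (f * r) = (f * q) * r := by ring
      _ = q := by rw [← hq, ← hr]
  exact hf.not_isUnit (IsUnit.of_mul_eq_one _ (mul_left_cancel₀ hq0 h2))

/-- Fitting: a symmetric element which is neither injective nor nilpotent splits the space -/
theorem fitting_piece [FiniteDimensional F V] (h : Fm st g ε κ B Q) (hnd : Nd B) {a : R} (ha : st a = a)
    (h1 : ∃ x : V, x ≠ 0 ∧ a • x = 0) (h2 : ¬ ∃ n, ∀ x : V, a ^ n • x = 0) :
    ∃ U : Submodule R V, U ≠ ⊥ ∧ Nd (rB B U) ∧ U ≠ ⊤ := by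
  let L : Module.End F V := Algebra.lsmul F F V a
  have hL : ∀ (n : ℕ) (x : V), (L ^ n) x = a ^ n • x := by
    intro n x
    have : L ^ n = Algebra.lsmul F F V (a ^ n) := by rw [map_pow]
    rw [this]; rfl
  obtain ⟨n, hn⟩ := Filter.eventually_atTop.1 (LinearMap.eventually_isCompl_ker_pow_range_pow L)
  have hc := hn (n + 1) (by omega)
  let U : Submodule R V :=
    { carrier := {x | a ^ (n + 1) • x = 0}
      add_mem' := by
        intro x y hx hy
        rw [Set.mem_setOf_eq] at hx hy ⊢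
        rw [smul_add, hx, hy, add_zero]
      zero_mem' := smul_zero _
      smul_mem' := by
        intro c x hx
        rw [Set.mem_setOf_eq] at hx ⊢
        rw [smul_comm, hx, smul_zero] }
  have hU : ∀ x, x ∈ U ↔ a ^ (n + 1) • x = 0 := fun x => Iff.rfl
  refine ⟨U, ?_, ?_, ?_⟩
  · intro hbot
    obtain ⟨x, hx0, hx⟩ := h1
    apply hx0
    have h3 : x ∈ U := by rw [hU, pow_succ, mul_smul, hx, smul_zero]
    rwa [hbot, Submodule.mem_bot] at h3
  · intro x hx
    apply Subtype.ext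
    apply hnd
    intro y
    have h3 : y ∈ LinearMap.ker (L ^ (n + 1)) ⊔ LinearMap.range (L ^ (n + 1)) := by
      rw [hc.sup_eq_top]; trivial
    obtain ⟨y₁, hy₁, _, ⟨y₂, rfl⟩, rfl⟩ := Submodule.mem_sup.1 h3
    rw [LinearMap.mem_ker, hL] at hy₁
    have h4 : B (x : V) y₁ = 0 := hx ⟨y₁, hy₁⟩
    rw [map_add, h4, hL, h.adj', map_pow, ha, (hU _).1 x.2, map_zero, LinearMap.zero_apply, add_zero]
  · intro htop
    apply h2
    refine ⟨n + 1, fun x => ?_⟩
    rw [← hU, htop]; trivial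

end Single

variable {F : Type*} [Field F] {R : Type*} [CommRing R] [Algebra F R]

/-- MAIN THEOREM -/
theorem good_all {st : R →ₐ[F] R} {g : R} {ε κ : F} (n : ℕ) : ∀ (V : Type u) [AddCommGroup V] [Module F V] [Module R V]
    [IsScalarTower F R V] [FiniteDimensional F V] (B : V →ₗ[F] V →ₗ[F] F) (Q : V → F),
    Fm st g ε κ B Q → Nd B → finrank F V < n → Good st B Q := by
  induction n with
  | zero => intro V _ _ _ _ _ B Q h hnd hlt; omega
  | succ n ih =>
    intro V _ _ _ _ _ B Q h hnd hlt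
    have IH : ∀ U : Submodule R V, finrank F U < finrank F V → Nd (rB B U) → Good st (rB B U) (rQ Q U) := by
      intro U hU hUn
      have := finite_sub (F := F) U
      exact ih U (rB B U) (rQ Q U) (h.restrict U) hUn (by omega)
    by_cases hnt : ∃ x : V, x ≠ 0
    swap
    · push Not at hnt
      refine ⟨0, fun a x => ?_, fun x y => ?_, fun x => ?_, fun x => by rw [hnt x, map_zero]; rfl⟩
      · rw [LinearMap.zero_apply, LinearMap.zero_apply, smul_zero]
      · rw [hnt x, hnt y, map_zero]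
      · rw [hnt x, map_zero]
    apply good_of_piece h hnd IH
    -- Fitting
    by_cases hfit : ∃ a : R, st a = a ∧ (∃ x : V, x ≠ 0 ∧ a • x = 0) ∧ ¬ ∃ n, ∀ x : V, a ^ n • x = 0
    · obtain ⟨a, ha, h1, h2⟩ := hfit
      obtain ⟨U, hU0, hUn, hUt⟩ := fitting_piece h hnd ha h1 h2
      exact ⟨U, hU0, hUn, Or.inl hUt⟩
    have hR1 : ∀ a : R, st a = a → (∃ x : V, x ≠ 0 ∧ a • x = 0) → ∃ n, ∀ x : V, a ^ n • x = 0 := by
      intro a ha h1
      by_contra h2
      exact hfit ⟨a, ha, h1, h2⟩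
    suffices hs : ∃ U : Submodule R V, U ≠ ⊥ ∧ Nd (rB B U) ∧ Good st (rB B U) (rQ Q U) by
      obtain ⟨U, hU0, hUn, hUg⟩ := hs
      exact ⟨U, hU0, hUn, Or.inr hUg⟩
    have hinv := h.inv
    -- unipotent case, for any generator
    have hun : ∀ g' : R, Fm st g' ε κ B Q → (∃ x : V, x ≠ 0 ∧ (g' - 1) • x = 0) →
        ∃ U : Submodule R V, U ≠ ⊥ ∧ Nd (rB B U) ∧ Good st (rB B U) (rQ Q U) := by
      intro g' h' hx
      have hinv' := h'.inv
      obtain ⟨n, hn⟩ := hR1 (g' + st g' - 2) (by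
        rw [map_sub, map_add, h'.stst, map_ofNat, add_comm (st g')]) (by
        obtain ⟨x, hx0, hx⟩ := hx
        refine ⟨x, hx0, ?_⟩
        have h1 : g' + st g' - 2 = st g' * (g' - 1) * (g' - 1) := by linear_combination (g' - 2) * -hinv'
        rw [h1, mul_smul, hx, smul_zero])
      apply unip_piece h' hnd hnt
      refine ⟨2 * n, fun x => ?_⟩
      have h1 : (g' - 1) ^ (2 * n) = g' ^ n * (g' + st g' - 2) ^ n := by
        rw [← mul_pow, pow_mul]
        congr 1
        linear_combination (-1 : R) * hinv'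
      rw [h1, mul_smul, hn, smul_zero]
    by_cases hg1 : ∃ x : V, x ≠ 0 ∧ (g - 1) • x = 0
    · exact hun g h hg1
    by_cases hg2 : ∃ x : V, x ≠ 0 ∧ (-g - 1) • x = 0
    · exact hun (-g) h.neg hg2
    have hg1' : ∀ x : V, (g - 1) • x = 0 → x = 0 := fun x hx => by
      by_contra h0; exact hg1 ⟨x, h0, hx⟩
    have hg2' : ∀ x : V, (-g - 1) • x = 0 → x = 0 := fun x hx => by
      by_contra h0; exact hg2 ⟨x, h0, hx⟩
    obtain ⟨f, hf, x₀, hx₀, hfx₀⟩ := exists_irreducible (F := F) hnt g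
    have hπ := dich_of_irreducible h.gen hf
    obtain ⟨π, hπ'⟩ : ∃ π, π = aeval g f := ⟨_, rfl⟩
    rw [← hπ'] at hπ hfx₀
    obtain ⟨n, hn⟩ := hR1 (π * st π) (by rw [map_mul, h.stst, mul_comm]) ⟨x₀, hx₀, by
      rw [mul_comm, mul_smul, hfx₀, smul_zero]⟩
    rcases hπ (st π) with ⟨b, hb⟩ | hc
    · -- local case
      have hpn : ∃ m, ∀ x : V, π ^ m • x = 0 := by
        refine ⟨2 * n, fun x => ?_⟩
        have h1 : π = st π * st b := by
          have := congrArg st hb
          rwa [h.stst, map_mul] at this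
        have h2 : π ^ (2 * n) = st b ^ n * (π * st π) ^ n := by
          rw [← mul_pow, pow_mul]
          congr 1
          calc π ^ 2 = π * π := by ring
            _ = π * (st π * st b) := by rw [← h1]
            _ = _ := by ring
        rw [h2, mul_smul, hn, smul_zero]
      obtain ⟨k, hk, v, hv⟩ := exists_last hnt hpn
      by_cases hx : ∃ (x : V) (b : R), B (π ^ k • x) (b • x) ≠ 0
      · obtain ⟨x, b, hx⟩ := hx
        exact cyclic_piece h hπ hk hx
      · exfalso
        push Not at hx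
        have h1 := alt_of_not h hnd hx g v
        have h2 : st g - g = st g * ((g - 1) * (-g - 1)) := by linear_combination g * hinv
        rw [h2, mul_smul, mul_smul] at h1
        have h3 : ∀ y : V, st g • y = 0 → y = 0 := by
          intro y hy
          have : g • st g • y = y := by rw [smul_smul, mul_comm, hinv, one_smul]
          rw [← this, hy, smul_zero]
        exact hv (hg2' _ (hg1' _ (h3 _ h1)))
    · exact swap_piece h hnd hπ hc hn hnt hg1'

end Cfsg.Agent.H976.Inv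
end

-- part: H976/Inv/Apply
section
/-!
# Every isometry of finite order is inverted by an (anti-)isometry
-/

set_option autoImplicit false

namespace Cfsg.Agent.H976.Inv

open Module Polynomial

universe u

section RR

variable (F : Type*) [Field F] (N : ℕ)

/-- the group algebra of the cyclic group of order `N` -/
abbrev RR : Type _ := F[X] ⧸ Ideal.span {(X ^ N - 1 : F[X])}

/-- the generator -/
noncomputable def gg : RR F N := Ideal.Quotient.mk _ X

theorem gg_pow : gg F N ^ N = 1 := by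
  have h1 : Ideal.Quotient.mk (Ideal.span {(X ^ N - 1 : F[X])}) (X ^ N - 1) = 0 :=
    Ideal.Quotient.eq_zero_iff_mem.2 (Ideal.subset_span rfl)
  rw [map_sub, map_pow, map_one, sub_eq_zero] at h1
  exact h1

/-- lift -/
noncomputable def liftN {A : Type*} [Ring A] [Algebra F A] (a : A) (ha : a ^ N = 1) : RR F N →ₐ[F] A :=
  Ideal.Quotient.liftₐ _ (aeval a) (by
    intro p hp
    obtain ⟨q, rfl⟩ := Ideal.mem_span_singleton.1 hp
    rw [map_mul, map_sub, map_pow, aeval_X, map_one, ha, sub_self, zero_mul])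

theorem liftN_gg {A : Type*} [Ring A] [Algebra F A] (a : A) (ha : a ^ N = 1) : liftN F N a ha (gg F N) = a := by
  show aeval a (X : F[X]) = a
  rw [aeval_X]

theorem gg_gen : Algebra.adjoin F {gg F N} = ⊤ := by
  rw [eq_top_iff]
  rintro x -
  obtain ⟨p, rfl⟩ := Ideal.Quotient.mk_surjective x
  rw [Algebra.adjoin_singleton_eq_range_aeval]
  refine ⟨p, ?_⟩
  have : aeval (gg F N) p = Ideal.Quotient.mkₐ F (Ideal.span {(X ^ N - 1 : F[X])}) (aeval X p) := by
    rw [← aeval_algHom_apply]; rfl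
  show aeval (gg F N) p = _
  rw [this, aeval_X_left_apply]; rfl

/-- the involution `g ↦ g⁻¹` -/
noncomputable def invN : RR F N →ₐ[F] RR F N := liftN F N (gg F N ^ (N - 1)) (by
  rw [← pow_mul, mul_comm, pow_mul, gg_pow, one_pow])

theorem invN_gg (hN : 0 < N) : invN F N (gg F N) * gg F N = 1 := by
  rw [invN, liftN_gg, ← pow_succ, Nat.sub_add_cancel hN, gg_pow]

end RR

variable {F : Type*} [Field F] {V : Type u} [AddCommGroup V] [Module F V]

seal _root_.Finset.filter in
theorem exists_inverting [FiniteDimensional F V] (T : V ≃ₗ[F] V) {N : ℕ} (hN : 0 < N) (hT : T ^ N = 1)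
    {ε κ : F} (hε : ε * ε = 1) (hκ : κ * ε = κ) (B : V →ₗ[F] V →ₗ[F] F) (Q : V → F)
    (hsymm : ∀ x y, B x y = ε * B y x) (hadd : ∀ x y, Q (x + y) = Q x + Q y + κ * B x y)
    (hsm : ∀ (c : F) x, Q (c • x) = c * c * Q x) (hnd : ∀ x, (∀ y, B x y = 0) → x = 0)
    (hBT : ∀ x y, B (T x) (T y) = B x y) (hQT : ∀ x, Q (T x) = Q x) :
    ∃ σ : V ≃ₗ[F] V, (∀ x, σ (T x) = T.symm (σ x)) ∧ (∀ x y, B (σ x) (σ y) = B y x) ∧ (∀ x, Q (σ x) = Q x) ∧
      ∀ x, σ (σ x) = x := by
  let T' : Module.End F V := T.toLinearMap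
  have hT' : T' ^ N = 1 := by
    apply LinearMap.ext
    intro x
    have h1 : ∀ m, (T' ^ m) x = (T ^ m) x := by
      intro m
      induction m generalizing x with
      | zero => rfl
      | succ m ih => rw [pow_succ, pow_succ, Module.End.mul_apply, ih]; rfl
    rw [h1, hT]; rfl
  let θ : RR F N →ₐ[F] Module.End F V := liftN F N T' hT'
  have hθg : θ (gg F N) = T' := liftN_gg F N T' hT'
  letI : Module (RR F N) V := Module.compHom V θ.toRingHom
  have hsmul : ∀ (a : RR F N) (x : V), a • x = θ a x := fun a x => rfl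
  haveI : IsScalarTower F (RR F N) V := ⟨fun c a x => by
    rw [hsmul, hsmul, map_smul, LinearMap.smul_apply]⟩
  have hgx : ∀ x : V, gg F N • x = T x := fun x => by rw [hsmul, hθg]; rfl
  have hinv := invN_gg F N hN
  have hstg : ∀ x : V, invN F N (gg F N) • x = T.symm x := by
    intro x
    apply T.injective
    rw [← hgx, smul_smul, mul_comm, hinv, one_smul, T.apply_symm_apply]
  have hstst : ∀ a, invN F N (invN F N a) = a := st_st (gg_gen F N) hinv
  -- adjunction
  have hadj : ∀ (a : RR F N) (x y : V), B (a • x) y = B x (invN F N a • y) := by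
    intro a
    obtain ⟨p, rfl⟩ := exists_aeval (gg_gen F N) a
    induction p using Polynomial.induction_on' with
    | add p q hp hq =>
      intro x y
      rw [map_add, map_add, add_smul, add_smul, map_add, map_add, LinearMap.add_apply, hp, hq]
    | monomial n c =>
      have h1 : ∀ (m : ℕ) (x y : V), B (gg F N ^ m • x) y = B x (invN F N (gg F N) ^ m • y) := by
        intro m
        induction m with
        | zero => intro x y; rw [pow_zero, pow_zero, one_smul, one_smul]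
        | succ m ih =>
          intro x y
          rw [pow_succ, mul_smul, ih, hgx, pow_succ', mul_smul, hstg, ← hBT x, T.apply_symm_apply]
      intro x y
      rw [aeval_monomial, map_mul, AlgHom.commutes, mul_smul, mul_smul, algebraMap_smul, algebraMap_smul,
        bs₁, bs₂, map_pow, h1]
  have hQg : ∀ (m : ℕ) (y : V), Q (gg F N ^ m • y) = Q y := by
    intro m y
    induction m with
    | zero => rw [pow_zero, one_smul]
    | succ m ih => rw [pow_succ', mul_smul, hgx, hQT, ih]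
  have hQs : ∀ (m : ℕ) (y : V), Q (invN F N (gg F N) ^ m • y) = Q y := by
    intro m y
    rw [← hQg m (invN F N (gg F N) ^ m • y), smul_smul, ← mul_pow, mul_comm, hinv, one_pow, one_smul]
  have hqst : ∀ (a : RR F N) (x : V), Q (a • x) = Q (invN F N a • x) := by
    intro a x
    obtain ⟨p, rfl⟩ := exists_aeval (gg_gen F N) a
    induction p using Polynomial.induction_on' with
    | add p q hp hq =>
      rw [map_add, map_add, add_smul, add_smul, hadd, hadd, hp, hq]
      have h1 : κ * B (aeval (gg F N) p • x) (aeval (gg F N) q • x) =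
          κ * B (invN F N (aeval (gg F N) p) • x) (invN F N (aeval (gg F N) q) • x) := by
        rw [hadj, hadj, hstst, smul_smul, smul_smul, hsymm x, ← mul_assoc, hκ, hadj, map_mul, hstst]
      rw [h1]
    | monomial n c =>
      rw [aeval_monomial, map_mul, AlgHom.commutes, mul_smul, mul_smul, algebraMap_smul, algebraMap_smul,
        hsm, hsm, map_pow, hQg, hQs]
  have hF : Fm (invN F N) (gg F N) ε κ B Q :=
    { adj := hadj
      symm := hsymm
      qadd := hadd
      qst := hqst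
      qg := fun x => by rw [hgx, hQT]
      qneg := fun x => by
        have := hsm (-1) x
        rw [neg_smul, one_smul] at this
        rw [this]; ring
      hε := hε
      hκ := hκ
      gen := gg_gen F N
      inv := hinv }
  obtain ⟨σ, hσ1, hσ2, hσ3, hσ4⟩ := good_all (finrank F V + 1) V B Q hF hnd (by omega)
  have hinj : Function.Injective σ := Good.inj hnd hsymm hσ2
  refine ⟨LinearEquiv.ofInjectiveEndo σ hinj, ?_, ?_, ?_, ?_⟩
  · intro x
    show σ (T x) = T.symm (σ x)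
    rw [← hgx, hσ1, hstg]
  · intro x y
    exact hσ2 x y
  · intro x
    exact hσ3 x
  · intro x
    exact hσ4 x

end Cfsg.Agent.H976.Inv
end

-- part: H976/Cop/RowIso
section
/-!
# Rows `PSp`, `PΩ`

* `real_isometry`: every element of the isometry group of a quadratic form with non-degenerate polar form over a
  finite field (any characteristic) is conjugate to its inverse in this group;
* `sp_anti`: every element of `Sp_2m(F)` is inverted by a matrix `S` with `S J Sᵀ = -J`.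
-/

set_option autoImplicit false

namespace Cfsg.Agent.H976.Cop

open Matrix QuadraticMap

section GLE

variable {ι : Type*} [Fintype ι] [DecidableEq ι] {F : Type*} [Field F]

/-- invertible matrices as linear automorphisms -/
def glEquiv : GL ι F ≃* ((ι → F) ≃ₗ[F] (ι → F)) :=
  (Matrix.GeneralLinearGroup.toLin).trans (LinearMap.GeneralLinearGroup.generalLinearEquiv F (ι → F))

theorem glEquiv_apply (g : GL ι F) (v : ι → F) : glEquiv g v = (g : Matrix ι ι F) *ᵥ v := rfl

theorem glEquiv_symm_mulVec (σ : (ι → F) ≃ₗ[F] (ι → F)) (v : ι → F) :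
    ((glEquiv.symm σ : GL ι F) : Matrix ι ι F) *ᵥ v = σ v := by
  rw [← glEquiv_apply, MulEquiv.apply_symm_apply]

end GLE

section Orth

variable {ι : Type} [Fintype ι] [DecidableEq ι] {F : Type*} [Field F]

theorem mem_iso (Q : (ι → F) → F) (g : GL ι F) :
    g ∈ Cfsg.isometryGroup F Q ↔ ∀ x, Q ((g : Matrix ι ι F) *ᵥ x) = Q x :=
  ⟨fun h x => h x x, fun h x _ => h x⟩

/-- every isometry of a quadratic form over a finite field (any characteristic) is inverted by an element `c` of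
order at most two of the isometry group: it is the product of the involutions `g c⁻¹` and `c` (or of elements of
order at most two) -/
theorem strongly_real_isometry [Finite F] (Q : QuadraticForm F (ι → F)) (hQ : (polarBilin Q).Nondegenerate)
    (g : Cfsg.isometryGroup F ⇑Q) : ∃ c : Cfsg.isometryGroup F ⇑Q, c * c = 1 ∧ c * g * c⁻¹ = g⁻¹ := by
  have hg := (mem_iso _ _).1 g.2
  have hQT : ∀ x, Q (glEquiv (g : GL ι F) x) = Q x := fun x => by rw [glEquiv_apply, hg]
  obtain ⟨σ, hσ1, -, hσ3, hσ4⟩ := Cfsg.Agent.H976.Inv.exists_inverting (glEquiv (g : GL ι F))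
    (orderOf_pos (g : GL ι F)) (by rw [← map_pow, pow_orderOf_eq_one, map_one]) (ε := 1) (κ := 1) (mul_one 1) (mul_one 1)
    (polarBilin Q) Q
    (fun x y => by rw [polarBilin_apply_apply, polarBilin_apply_apply, one_mul, polar_comm])
    (fun x y => by rw [polarBilin_apply_apply, one_mul, polar]; ring)
    (fun c x => by rw [QuadraticMap.map_smul, smul_eq_mul])
    (fun x hx => hQ.1 x hx)
    (fun x y => by
      rw [polarBilin_apply_apply, polarBilin_apply_apply, polar, polar, ← map_add, hQT, hQT, hQT])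
    hQT
  have hσU : (glEquiv.symm σ : GL ι F) ∈ Cfsg.isometryGroup F ⇑Q := by
    rw [mem_iso]
    intro x
    rw [glEquiv_symm_mulVec, hσ3]
  refine ⟨⟨_, hσU⟩, ?_, ?_⟩
  · apply Subtype.ext
    apply glEquiv.injective
    show glEquiv (glEquiv.symm σ * glEquiv.symm σ) = glEquiv 1
    rw [map_mul, MulEquiv.apply_symm_apply, map_one]
    apply LinearEquiv.ext
    intro x
    exact hσ4 x
  rw [mul_inv_eq_iff_eq_mul]
  apply Subtype.ext
  apply glEquiv.injective
  show glEquiv (glEquiv.symm σ * (g : GL ι F)) = glEquiv ((g : GL ι F)⁻¹ * glEquiv.symm σ)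
  rw [map_mul, map_mul, MulEquiv.apply_symm_apply, map_inv]
  apply LinearEquiv.ext
  intro x
  exact hσ1 x

/-- every isometry of a quadratic form over a finite field (any characteristic) is conjugate to its inverse -/
theorem real_isometry [Finite F] (Q : QuadraticForm F (ι → F)) (hQ : (polarBilin Q).Nondegenerate)
    (g : Cfsg.isometryGroup F ⇑Q) : ∃ c : Cfsg.isometryGroup F ⇑Q, c * g * c⁻¹ = g⁻¹ := by
  obtain ⟨c, -, hc⟩ := strongly_real_isometry Q hQ g
  exact ⟨c, hc⟩

theorem amb_omega [Finite F] (Q : QuadraticForm F (ι → F)) (hQ : (polarBilin Q).Nondegenerate) :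
    Amb (Cfsg.Omega F ⇑Q) := by
  intro x
  obtain ⟨c, hc⟩ := real_isometry Q hQ (x : Cfsg.isometryGroup F ⇑Q)
  refine ⟨MulAut.conjNormal c, ?_⟩
  apply Subtype.ext
  rw [MulAut.conjNormal_apply, hc]
  rfl

theorem amb_pomega [Finite F] (Q : QuadraticForm F (ι → F)) (hQ : (polarBilin Q).Nondegenerate) :
    Amb (Cfsg.POmega F ⇑Q) := (amb_omega Q hQ).quot (Subgroup.center (Cfsg.Omega F ⇑Q))

end Orth

open Cfsg.Agent.LieClassical.OmegaReindex

theorem two_ne_zero_of_odd {F : Type*} [Field F] [Fintype F] (h : Odd (Fintype.card F)) : (2 : F) ≠ 0 := by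
  intro h2
  have h3 : ringChar F = 2 := by
    have hch : CharP F 2 := CharTwo.of_one_ne_zero_of_two_eq_zero one_ne_zero h2
    exact ringChar.eq_iff.2 hch
  have h4 := FiniteField.even_card_of_char_two h3
  rw [Nat.odd_iff] at h
  omega

theorem row_omegaOdd {S : Type*} [Group S] [Finite S] (h : Cfsg.IsPOmegaOdd S) :
    Cfsg.Agent.H505.Cop.CopRow S := by
  obtain ⟨F, _, _, m, -, hodd, ⟨e⟩⟩ := h
  have h1 := amb_pomega (quadOdd m F) (quadOdd_nondegenerate (two_ne_zero_of_odd hodd))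
  rw [coe_quadOdd] at h1
  exact (h1.congr e.symm).cop

theorem row_omegaPlus {S : Type*} [Group S] [Finite S] (h : Cfsg.IsPOmegaPlus S) :
    Cfsg.Agent.H505.Cop.CopRow S := by
  obtain ⟨F, _, _, m, -, ⟨e⟩⟩ := h
  have h1 := amb_pomega (quadPlus m F) quadPlus_nondegenerate
  rw [coe_quadPlus] at h1
  exact (h1.congr e.symm).cop

theorem row_omegaMinus {S : Type*} [Group S] [Finite S] (h : Cfsg.IsPOmegaMinus S) :
    Cfsg.Agent.H505.Cop.CopRow S := by
  obtain ⟨F, _, _, m, a, b, -, hab, ⟨e⟩⟩ := h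
  have h1 := amb_pomega (quadMinus (m - 1) F a b) (quadMinus_nondegenerate hab)
  rw [coe_quadMinus] at h1
  exact (h1.congr e.symm).cop

section Sp

variable {m : ℕ} {F : Type*} [Field F]

theorem J_mul_J : (J (Fin m) F) * (J (Fin m) F) = -1 := by
  exact Matrix.J_squared _ _

/-- the symplectic form as a bilinear map -/
noncomputable def spB (m : ℕ) (F : Type*) [Field F] :
    (Fin m ⊕ Fin m → F) →ₗ[F] (Fin m ⊕ Fin m → F) →ₗ[F] F := Matrix.toLinearMap₂' F (J (Fin m) F)

theorem spB_apply (x y : Fin m ⊕ Fin m → F) : spB m F x y = x ⬝ᵥ (J (Fin m) F *ᵥ y) :=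
  Matrix.toLinearMap₂'_apply' _ _ _

theorem spB_skew (x y : Fin m ⊕ Fin m → F) : spB m F x y = -1 * spB m F y x := by
  rw [spB_apply, spB_apply, Matrix.dotProduct_mulVec, ← Matrix.mulVec_transpose, Matrix.J_transpose,
    Matrix.neg_mulVec, neg_dotProduct, dotProduct_comm, neg_one_mul]

/-- every symplectic matrix is inverted by an anti-symplectic one -/
theorem sp_anti [Finite F] (A : Matrix.symplecticGroup (Fin m) F) :
    ∃ S : (Matrix (Fin m ⊕ Fin m) (Fin m ⊕ Fin m) F)ˣ,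
      (S : Matrix (Fin m ⊕ Fin m) (Fin m ⊕ Fin m) F) * J (Fin m) F * (S : Matrix (Fin m ⊕ Fin m) (Fin m ⊕ Fin m) F)ᵀ
        = - J (Fin m) F ∧
      (S : Matrix (Fin m ⊕ Fin m) (Fin m ⊕ Fin m) F) * A =
        ((A⁻¹ : Matrix.symplecticGroup (Fin m) F) : Matrix (Fin m ⊕ Fin m) (Fin m ⊕ Fin m) F) * S ∧ S * S = 1 := by
  have hA1 : (A : Matrix (Fin m ⊕ Fin m) (Fin m ⊕ Fin m) F) * (A⁻¹ : Matrix.symplecticGroup (Fin m) F) = 1 :=
    congrArg Subtype.val (mul_inv_cancel A)
  let g : GL (Fin m ⊕ Fin m) F := ⟨A, (A⁻¹ : Matrix.symplecticGroup (Fin m) F), hA1, mul_eq_one_comm.1 hA1⟩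
  have hA2 : (A : Matrix (Fin m ⊕ Fin m) (Fin m ⊕ Fin m) F)ᵀ * J (Fin m) F * A = J (Fin m) F :=
    SymplecticGroup.mem_iff'.1 A.2
  have hBT : ∀ x y, spB m F (glEquiv g x) (glEquiv g y) = spB m F x y := by
    intro x y
    rw [spB_apply, spB_apply, glEquiv_apply, glEquiv_apply]
    show ((A : Matrix (Fin m ⊕ Fin m) (Fin m ⊕ Fin m) F) *ᵥ x) ⬝ᵥ
      (J (Fin m) F *ᵥ ((A : Matrix (Fin m ⊕ Fin m) (Fin m ⊕ Fin m) F) *ᵥ y)) = _
    rw [dotProduct_comm, Matrix.dotProduct_mulVec, ← Matrix.mulVec_transpose, Matrix.mulVec_mulVec,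
      Matrix.mulVec_mulVec, hA2, dotProduct_comm]
  obtain ⟨σ, hσ1, hσ2, -, hσ5⟩ := Cfsg.Agent.H976.Inv.exists_inverting (glEquiv g)
    (orderOf_pos g) (by rw [← map_pow, pow_orderOf_eq_one, map_one]) (ε := -1) (κ := 0) (by ring) (by ring)
    (spB m F) (fun _ => 0) spB_skew (fun x y => by ring) (fun c x => by ring)
    (fun x hx => by
      have h1 : ∀ y, x ⬝ᵥ y = 0 := by
        intro y
        have h2 := hx (-(J (Fin m) F *ᵥ y))
        rw [spB_apply, Matrix.mulVec_neg, Matrix.mulVec_mulVec, J_mul_J, Matrix.neg_mulVec, neg_neg,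
          Matrix.one_mulVec] at h2
        exact h2
      exact dotProduct_eq_zero x h1)
    hBT (fun _ => rfl)
  have hσ4 : ∀ x y, spB m F (σ x) (σ y) = - spB m F x y := fun x y => by rw [hσ2, spB_skew]; ring
  obtain ⟨S, hS⟩ : ∃ S : GL (Fin m ⊕ Fin m) F, S = glEquiv.symm σ := ⟨_, rfl⟩
  have hSv : ∀ v, (S : Matrix (Fin m ⊕ Fin m) (Fin m ⊕ Fin m) F) *ᵥ v = σ v := fun v => by
    rw [hS, glEquiv_symm_mulVec]
  have hS1 : (S : Matrix (Fin m ⊕ Fin m) (Fin m ⊕ Fin m) F)ᵀ * J (Fin m) F * S = - J (Fin m) F := by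
    apply Matrix.ext_of_mulVec_single
    intro i
    apply dotProduct_eq
    intro x
    have h1 := hσ4 x (Pi.single i 1)
    rw [← hSv, ← hSv, spB_apply, spB_apply] at h1
    rw [Matrix.neg_mulVec, neg_dotProduct, ← Matrix.mulVec_mulVec, ← Matrix.mulVec_mulVec, Matrix.mulVec_transpose,
      ← Matrix.dotProduct_mulVec, dotProduct_comm, dotProduct_comm _ x]
    rw [dotProduct_comm] at h1
    rw [dotProduct_comm]
    exact h1
  refine ⟨S, ?_, ?_, ?_⟩
  · have h1 : (S : Matrix (Fin m ⊕ Fin m) (Fin m ⊕ Fin m) F) *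
        (J (Fin m) F * (S : Matrix (Fin m ⊕ Fin m) (Fin m ⊕ Fin m) F)ᵀ * J (Fin m) F) = 1 := by
      rw [mul_eq_one_comm, Matrix.mul_assoc, Matrix.mul_assoc, ← Matrix.mul_assoc _ (J (Fin m) F), hS1,
        Matrix.mul_neg, J_mul_J, neg_neg]
    calc (S : Matrix (Fin m ⊕ Fin m) (Fin m ⊕ Fin m) F) * J (Fin m) F *
          (S : Matrix (Fin m ⊕ Fin m) (Fin m ⊕ Fin m) F)ᵀ
        = -(((S : Matrix (Fin m ⊕ Fin m) (Fin m ⊕ Fin m) F) *
        (J (Fin m) F * (S : Matrix (Fin m ⊕ Fin m) (Fin m ⊕ Fin m) F)ᵀ * J (Fin m) F)) * J (Fin m) F) := by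
          simp only [Matrix.mul_assoc]
          rw [J_mul_J]
          simp only [Matrix.mul_neg, Matrix.mul_one, neg_neg]
      _ = _ := by rw [h1, Matrix.one_mul]
  · have h1 : S * g = g⁻¹ * S := by
      apply glEquiv.injective
      rw [map_mul, map_mul, hS, MulEquiv.apply_symm_apply, map_inv]
      apply LinearEquiv.ext
      intro x
      exact hσ1 x
    exact congrArg Units.val h1
  · apply glEquiv.injective
    rw [map_mul, hS, MulEquiv.apply_symm_apply, map_one]
    apply LinearEquiv.ext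
    intro x
    exact hσ5 x

/-- in characteristic two every symplectic matrix is a product of two symplectic matrices of order at most two -/
theorem sp_eq_mul_invol [Finite F] (h2 : (2 : F) = 0) (A : Matrix.symplecticGroup (Fin m) F) :
    ∃ s t : Matrix.symplecticGroup (Fin m) F, s * s = 1 ∧ t * t = 1 ∧ A = s * t := by
  obtain ⟨S, hS1, hS2, hS3⟩ := sp_anti A
  have hneg : - J (Fin m) F = J (Fin m) F := by
    ext i j
    rw [Matrix.neg_apply]
    linear_combination (-(J (Fin m) F i j)) * h2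
  have hS4 : (S : Matrix (Fin m ⊕ Fin m) (Fin m ⊕ Fin m) F) * (S : Matrix (Fin m ⊕ Fin m) (Fin m ⊕ Fin m) F) = 1 :=
    congrArg Units.val hS3
  let c : Matrix.symplecticGroup (Fin m) F := ⟨S, by rw [SymplecticGroup.mem_iff, hS1, hneg]⟩
  have hc1 : c * c = 1 := Subtype.ext hS4
  have hc2 : c * A = A⁻¹ * c := Subtype.ext hS2
  refine ⟨A * c, c, ?_, hc1, ?_⟩
  · calc A * c * (A * c) = A * (c * A) * c := by group
      _ = 1 := by rw [hc2]; rw [← mul_assoc, mul_inv_cancel, one_mul, hc1]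
  · rw [mul_assoc, hc1, mul_one]

/-- conjugation by an anti-symplectic matrix -/
def spConj (S : (Matrix (Fin m ⊕ Fin m) (Fin m ⊕ Fin m) F)ˣ)
    (hS : (S : Matrix (Fin m ⊕ Fin m) (Fin m ⊕ Fin m) F) * J (Fin m) F *
      (S : Matrix (Fin m ⊕ Fin m) (Fin m ⊕ Fin m) F)ᵀ = - J (Fin m) F) :
    Matrix.symplecticGroup (Fin m) F → Matrix.symplecticGroup (Fin m) F := fun M =>
  ⟨(S : Matrix (Fin m ⊕ Fin m) (Fin m ⊕ Fin m) F) * M * ((S⁻¹ : (Matrix (Fin m ⊕ Fin m) (Fin m ⊕ Fin m) F)ˣ) :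
    Matrix (Fin m ⊕ Fin m) (Fin m ⊕ Fin m) F), by
    rw [SymplecticGroup.mem_iff]
    have hM := SymplecticGroup.mem_iff.1 M.2
    have h1 : ((S⁻¹ : (Matrix (Fin m ⊕ Fin m) (Fin m ⊕ Fin m) F)ˣ) : Matrix (Fin m ⊕ Fin m) (Fin m ⊕ Fin m) F) *
        J (Fin m) F * ((S⁻¹ : (Matrix (Fin m ⊕ Fin m) (Fin m ⊕ Fin m) F)ˣ) :
          Matrix (Fin m ⊕ Fin m) (Fin m ⊕ Fin m) F)ᵀ = - J (Fin m) F := by
      have h2 : J (Fin m) F = -((S : Matrix (Fin m ⊕ Fin m) (Fin m ⊕ Fin m) F) * J (Fin m) F *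
        (S : Matrix (Fin m ⊕ Fin m) (Fin m ⊕ Fin m) F)ᵀ) := by rw [hS, neg_neg]
      have h3 : (S : Matrix (Fin m ⊕ Fin m) (Fin m ⊕ Fin m) F)ᵀ *
          ((S⁻¹ : (Matrix (Fin m ⊕ Fin m) (Fin m ⊕ Fin m) F)ˣ) : Matrix (Fin m ⊕ Fin m) (Fin m ⊕ Fin m) F)ᵀ = 1 := by
        rw [← Matrix.transpose_mul, Units.inv_mul, Matrix.transpose_one]
      calc _ = -((((S⁻¹ : (Matrix (Fin m ⊕ Fin m) (Fin m ⊕ Fin m) F)ˣ) : Matrix (Fin m ⊕ Fin m) (Fin m ⊕ Fin m) F) *
            (S : Matrix (Fin m ⊕ Fin m) (Fin m ⊕ Fin m) F)) * J (Fin m) F *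
            ((S : Matrix (Fin m ⊕ Fin m) (Fin m ⊕ Fin m) F)ᵀ *
          ((S⁻¹ : (Matrix (Fin m ⊕ Fin m) (Fin m ⊕ Fin m) F)ˣ) : Matrix (Fin m ⊕ Fin m) (Fin m ⊕ Fin m) F)ᵀ)) := by
            conv_lhs => rw [h2]
            simp only [Matrix.mul_neg, Matrix.neg_mul, Matrix.mul_assoc]
        _ = _ := by rw [h3, Units.inv_mul, Matrix.one_mul, Matrix.mul_one]
    rw [Matrix.transpose_mul, Matrix.transpose_mul]
    calc _ = (S : Matrix (Fin m ⊕ Fin m) (Fin m ⊕ Fin m) F) * ((M : Matrix (Fin m ⊕ Fin m) (Fin m ⊕ Fin m) F) *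
          (((S⁻¹ : (Matrix (Fin m ⊕ Fin m) (Fin m ⊕ Fin m) F)ˣ) : Matrix (Fin m ⊕ Fin m) (Fin m ⊕ Fin m) F) *
        J (Fin m) F * ((S⁻¹ : (Matrix (Fin m ⊕ Fin m) (Fin m ⊕ Fin m) F)ˣ) :
          Matrix (Fin m ⊕ Fin m) (Fin m ⊕ Fin m) F)ᵀ) * (M : Matrix (Fin m ⊕ Fin m) (Fin m ⊕ Fin m) F)ᵀ) *
          (S : Matrix (Fin m ⊕ Fin m) (Fin m ⊕ Fin m) F)ᵀ := by simp only [Matrix.mul_assoc]
      _ = J (Fin m) F := by
        rw [h1, Matrix.mul_neg, Matrix.neg_mul, hM, Matrix.mul_neg, Matrix.neg_mul, hS, neg_neg]⟩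

theorem amb_sp [Finite F] : Amb (Matrix.symplecticGroup (Fin m) F) := by
  intro x
  obtain ⟨S, hS, hSx, -⟩ := sp_anti x
  let α : Matrix.symplecticGroup (Fin m) F →* Matrix.symplecticGroup (Fin m) F :=
    { toFun := spConj S hS
      map_one' := by
        apply Subtype.ext
        show (S : Matrix (Fin m ⊕ Fin m) (Fin m ⊕ Fin m) F) * 1 * _ = 1
        rw [Matrix.mul_one, Units.mul_inv]
      map_mul' := by
        intro a b
        apply Subtype.ext
        show (S : Matrix (Fin m ⊕ Fin m) (Fin m ⊕ Fin m) F) * (_ * _) * _ = (_ * _ * _) * (_ * _ * _)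
        simp only [Matrix.mul_assoc]
        rw [← Matrix.mul_assoc _ (S : Matrix (Fin m ⊕ Fin m) (Fin m ⊕ Fin m) F), Units.inv_mul, Matrix.one_mul] }
  have hinj : Function.Injective α := by
    intro a b hab
    apply Subtype.ext
    have h1 : (S : Matrix (Fin m ⊕ Fin m) (Fin m ⊕ Fin m) F) * a * ((S⁻¹ : (Matrix (Fin m ⊕ Fin m) (Fin m ⊕ Fin m) F)ˣ) :
      Matrix (Fin m ⊕ Fin m) (Fin m ⊕ Fin m) F) = (S : Matrix (Fin m ⊕ Fin m) (Fin m ⊕ Fin m) F) * b *
      ((S⁻¹ : (Matrix (Fin m ⊕ Fin m) (Fin m ⊕ Fin m) F)ˣ) : Matrix (Fin m ⊕ Fin m) (Fin m ⊕ Fin m) F) :=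
      congrArg Subtype.val hab
    exact S.isUnit.mul_left_cancel ((S⁻¹).isUnit.mul_right_cancel h1)
  have hfin : Finite (Matrix.symplecticGroup (Fin m) F) := inferInstance
  refine ⟨MulEquiv.ofBijective α (Finite.injective_iff_bijective.1 hinj), ?_⟩
  apply Subtype.ext
  show (S : Matrix (Fin m ⊕ Fin m) (Fin m ⊕ Fin m) F) * x * ((S⁻¹ : (Matrix (Fin m ⊕ Fin m) (Fin m ⊕ Fin m) F)ˣ) :
      Matrix (Fin m ⊕ Fin m) (Fin m ⊕ Fin m) F) = _
  rw [hSx, Matrix.mul_assoc, Units.mul_inv, Matrix.mul_one]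

theorem row_psp {S : Type*} [Group S] [Finite S] (h : Cfsg.IsPSp S) : Cfsg.Agent.H505.Cop.CopRow S := by
  obtain ⟨F, _, _, m, -, -, ⟨e⟩⟩ := h
  have h1 : Amb (Cfsg.PSp m F) :=
    (amb_sp (m := m) (F := F)).quot (Subgroup.center (Matrix.symplecticGroup (Fin m) F))
  exact (h1.congr e.symm).cop

end Sp

end Cfsg.Agent.H976.Cop
end

private theorem dce_6d231d92c434 : _root_.True := by
  try have : _root_.True := by simp only [_root_.Cfsg.Agent.H976.Inv.invN.eq_1]
  exact _root_.True.intro
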